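import Groth.Agent.Funfld2.Quad.Place
import Groth.Agent.FunFld1.IntClosure
import Mathlib.RingTheory.Norm.Defs
import Mathlib.LinearAlgebra.Matrix.ToLin

/-! Norms in quadratic extensions. -/

open FunFld Groth.FunFld1

namespace Groth.Funfld2.Quad

section

variable {F K : Type*} [Field F] [Field K] [Algebra F K] (hdeg : Module.finrank F K = 2)

include hdeg

theorem norm_gen {y : K} (hy : y ∉ Set.range (algebraMap F K)) {T N : F}
    (h : y ^ 2 = algebraMap F K T * y - algebraMap F K N) : Algebra.norm F y = N := by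
  classical
  have := finite hdeg
  have hli : LinearIndependent F ![(1 : K), y] := by
    refine LinearIndependent.pair_iff.2 fun s t hst => ?_
    rw [Algebra.smul_def, Algebra.smul_def, mul_one] at hst
    by_cases ht : t = 0
    · subst ht
      rw [map_zero, zero_mul, add_zero] at hst
      exact ⟨(map_eq_zero _).1 hst, rfl⟩
    · refine absurd ⟨-s / t, ?_⟩ hy
      have : algebraMap F K t ≠ 0 := by simpa using ht
      rw [map_div₀, map_neg, div_eq_iff this]
      linear_combination -hst
  let b : Module.Basis (Fin 2) F K :=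
    basisOfLinearIndependentOfCardEqFinrank hli (by simp [hdeg])
  have hb : ∀ i, b i = ![(1 : K), y] i := fun i => by
    simp [b, coe_basisOfLinearIndependentOfCardEqFinrank]
  have hb0 : b 0 = 1 := by rw [hb]; rfl
  have hb1 : b 1 = y := by rw [hb]; rfl
  have c0 : y * b 0 = b 1 := by rw [hb0, hb1, mul_one]
  have c1 : y * b 1 = (-N) • b 0 + T • b 1 := by
    rw [hb0, hb1, ← sq, h, Algebra.smul_def, Algebra.smul_def, map_neg, mul_one]; ring
  rw [Algebra.norm_eq_matrix_det b, Matrix.det_fin_two]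
  simp only [Algebra.leftMulMatrix_eq_repr_mul, c0, c1, map_add, map_smul,
    Module.Basis.repr_self, Finsupp.add_apply, Finsupp.smul_apply, Finsupp.single_apply,
    smul_eq_mul]
  norm_num

end

section

variable {k F K : Type*} [Field k] [Field F] [Field K] [Algebra k F] [Algebra F K] [Algebra k K]
  [IsScalarTower k F K]

/-- Above a place where `f` vanishes some place has `y` a unit. -/
theorem exists_unit_above (hF : IsFF k F) (hdeg : Module.finrank F K = 2) (h2F : (2 : F) = 0) {y : K}
    (hy : y ∉ Set.range (algebraMap F K)) {f : F} (heq : y ^ 2 + y = algebraMap F K f)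
    (P : Place k F) (hf : P.1 f ≤ 1) :
    ∃ Q : Place k K, IsOver Q P ∧ Q.ord y = 0 := by
  classical
  have := finite hdeg
  have h2K : (2 : K) = 0 := by rw [← map_ofNat (algebraMap F K) 2, h2F, map_zero]
  have hy0 : y ≠ 0 := fun e => hy ⟨0, by rw [e, map_zero]⟩
  have hy1 : y + 1 ≠ 0 := fun e => hy ⟨-1, by rw [map_neg, map_one]; linear_combination -e⟩
  have hle : ∀ Q : Place k K, IsOver Q P → Q.1 y ≤ 1 := by
    intro Q hQ
    by_contra hgt
    rw [not_le] at hgt
    have h1 : Q.1 (y ^ 2 + y) = Q.1 y ^ 2 := by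
      rw [Valuation.map_add_eq_of_lt_left, map_pow]
      rw [map_pow]; exact lt_self_pow₀ hgt one_lt_two
    rw [heq] at h1
    have h3 := (over_le_one_iff hQ f).2 hf
    rw [h1] at h3
    exact absurd h3 (not_le.2 (one_lt_pow₀ hgt two_ne_zero))
  by_contra! hcon
  have hpos : ∀ Q : Place k K, IsOver Q P → 0 < Q.ord y := fun Q hQ =>
    lt_of_le_of_ne ((val_le_one_iff Q y).1 (hle Q hQ)) (Ne.symm (hcon Q hQ))
  have hord : ∀ Q : Place k K, IsOver Q P → Q.ord y = ramIdx Q P * P.ord f := by
    intro Q hQ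
    rw [← overWith_ord (isOverWith_ramIdx hQ), ← heq, show y ^ 2 + y = y * (y + 1) by ring,
      ord_mul Q hy0 hy1]
    have h1 : Q.1 (y + 1) = 1 := by
      rw [add_comm]; exact val_one_add_of_lt_one Q ((val_lt_one_iff Q hy0).2 (hpos Q hQ))
    rw [(val_eq_one_iff Q hy1).1 h1, add_zero]
  have hN := norm_gen hdeg hy (T := -1) (N := -f) (by
    rw [map_neg, map_neg, map_one]; linear_combination heq)
  have hnorm := hF.ord_norm (K' := K) P y
  rw [hN] at hnorm
  have hneg : P.ord (-f) = P.ord f := by simp [Place.ord]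
  rw [hneg] at hnorm
  obtain ⟨Q₀, hQ₀⟩ := hF.exists_over (K' := K) P
  have hfpos : 0 < P.ord f := by
    have := hord Q₀ hQ₀ ▸ hpos Q₀ hQ₀
    exact (mul_pos_iff_of_pos_left
      (by exact_mod_cast overWith_pos (isOverWith_ramIdx hQ₀))).1 this
  have hs : ∑ Q ∈ hF.above P, (Q.deg : ℤ) * Q.ord y =
      ((∑ Q ∈ (hF.above P : Finset (Place k K)), ramIdx Q P * Q.deg : ℕ) : ℤ) * P.ord f := by
    push_cast
    rw [Finset.sum_mul]
    exact Finset.sum_congr rfl fun Q hQ => by rw [hord Q (hF.mem_above.1 hQ)]; ring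
  rw [hs, hF.sum_ramIdx_deg, hdeg] at hnorm
  push_cast at hnorm
  have := mul_pos (show (0 : ℤ) < P.deg by exact_mod_cast hF.deg_pos P) hfpos
  linarith

end

end Groth.Funfld2.Quad
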