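import Groth.Agent.Funfld2.Quad.Rat
import Groth.Agent.Funfld2.Quad.Norm
import Groth.Agent.FunFld1.Rational

/-! The curves `y² + y = f(x)` with prescribed odd poles, in characteristic two. -/

open FunFld Groth.FunFld1
open scoped Polynomial

namespace Groth.Funfld2.Quad

variable {k : Type*} [Field k]

theorem X_sub_C_eq (a : k) : (RatFunc.X : RatFunc k) - RatFunc.C a =
    algebraMap k[X] (RatFunc k) (Polynomial.X - Polynomial.C a) := by
  rw [map_sub, RatFunc.algebraMap_X, RatFunc.algebraMap_C]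

theorem sep_of_val_lt {K : Type*} [Field K] [Algebra k K] (Q : Place k K) (x : K) {a b : k}
    (h : b ≠ a) (hb : Q.1 (x - algebraMap k K b) < 1) : Q.1 (x - algebraMap k K a) = 1 := by
  have h1 : Q.1 (algebraMap k K (b - a)) = 1 := val_algebraMap Q (sub_ne_zero.2 h)
  rw [show x - algebraMap k K a = algebraMap k K (b - a) + (x - algebraMap k K b) by
    rw [map_sub]; ring, Valuation.map_add_eq_of_lt_left _ (by rw [h1]; exact hb), h1]

variable [IsAlgClosed k] {K : Type*} [Field K] [Algebra k K] [Algebra (RatFunc k) K]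
  [IsScalarTower k (RatFunc k) K]

omit [IsAlgClosed k] in
theorem algebraMap_X_sub (a : k) :
    algebraMap (RatFunc k) K ((RatFunc.X : RatFunc k) - RatFunc.C a) =
      algebraMap (RatFunc k) K RatFunc.X - algebraMap k K a := by
  rw [map_sub, IsScalarTower.algebraMap_apply k (RatFunc k) K, RatFunc.algebraMap_eq_C]

variable (hdeg : Module.finrank (RatFunc k) K = 2) {y : K}
  (hy : y ∉ Set.range (algebraMap (RatFunc k) K)) {f : RatFunc k}
  (heq : y ^ 2 + y = algebraMap (RatFunc k) K f)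
  {B : Finset k} {d : k → ℕ} (hd : ∀ α ∈ B, Odd (d α))
  (hpole : ∀ (p : Place k (RatFunc k)) (α : k), α ∈ B →
    p.1 ((RatFunc.X : RatFunc k) - RatFunc.C α) < 1 → p.ord f = -(d α : ℤ))
  (hint : ∀ p : Place k (RatFunc k),
    (∀ α ∈ B, 1 ≤ p.1 ((RatFunc.X : RatFunc k) - RatFunc.C α)) → p.1 f ≤ 1)

include hdeg hy heq hd hpole in
theorem at_pole {Q : Place k K} {α : k} (hα : α ∈ B)
    (hQ : Q.1 (algebraMap (RatFunc k) K RatFunc.X - algebraMap k K α) < 1) :
    ∃ p : Place k (RatFunc k), IsOverWith Q p 2 ∧ (∀ R : Place k K, IsOver R p → R = Q) ∧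
      p.ord f = -(d α : ℤ) ∧ p.ord ((RatFunc.X : RatFunc k) - RatFunc.C α) = 1 ∧
      Q.ord y = -(d α : ℤ) ∧ Q.deg = 1 ∧
      Q.ord (algebraMap (RatFunc k) K RatFunc.X - algebraMap k K α) = 2 := by
  have hF := Groth.Funfld2.Rat.isFF (k := k)
  have := finite hdeg
  obtain ⟨p, hp⟩ := hF.exists_isOver Q
  rw [← algebraMap_X_sub] at hQ
  have hp1 := (over_lt_one_iff hp _).1 hQ
  have hf := hpole p α hα hp1
  have hne : (RatFunc.X : RatFunc k) - RatFunc.C α ≠ 0 := by
    rw [X_sub_C_eq]; exact RatFunc.algebraMap_ne_zero (Polynomial.X_sub_C_ne_zero α)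
  have hord : p.ord ((RatFunc.X : RatFunc k) - RatFunc.C α) = 1 := by
    refine le_antisymm ?_ ((val_lt_one_iff p hne).1 hp1)
    rw [X_sub_C_eq]
    refine Groth.Funfld2.Rat.ord_squarefree_le_one ((val_le_one_iff p _).1 ?_)
      (Polynomial.irreducible_X_sub_C α).squarefree
    have : (RatFunc.X : RatFunc k) = (RatFunc.X - RatFunc.C α) + algebraMap k (RatFunc k) α := by
      rw [RatFunc.algebraMap_eq_C]; ring
    rw [this]
    exact Valuation.map_add_le _ hp1.le (p.2.1 α)
  have hy0 : y ≠ 0 := fun e => hy ⟨0, by rw [e, map_zero]⟩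
  have hyv : 1 < Q.1 y := by
    by_contra hle
    rw [not_lt] at hle
    have h1 : Q.1 (y ^ 2 + y) ≤ 1 :=
      Valuation.map_add_le _ (by rw [map_pow]; exact pow_le_one₀ zero_le hle) hle
    rw [heq, over_le_one_iff hp, val_le_one_iff, hf] at h1
    obtain ⟨m, hm⟩ := hd α hα
    omega
  have hoy : Q.ord (algebraMap (RatFunc k) K f) = 2 * Q.ord y := by
    rw [← heq, ord_eq_of_val_eq Q (n := -(2 * Q.ord y)) (by
      rw [Valuation.map_add_eq_of_lt_left _ (by rw [map_pow]; exact lt_self_pow₀ hyv one_lt_two),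
        map_pow, val_eq_exp_neg_ord Q hy0, ← WithZero.exp_nsmul, nsmul_eq_mul]
      congr 1; ring), neg_neg]
  have he : IsOverWith Q p 2 := two_of_odd hF hdeg hp hoy (by
    rw [hf]; exact ((Int.odd_coe_nat _).2 (hd α hα)).neg)
  refine ⟨p, he, (of_two hF hdeg he).1, hf, hord, ?_,
    deg_eq_one_of_isAlgClosed (hF.ext (K' := K)) Q, ?_⟩
  · rw [overWith_ord he, hf] at hoy
    push_cast at hoy
    omega
  · rw [← algebraMap_X_sub, overWith_ord he, hord]; norm_num

include hdeg hy heq hint in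
theorem at_regular {Q : Place k K}
    (hQ : ∀ α ∈ B, 1 ≤ Q.1 (algebraMap (RatFunc k) K RatFunc.X - algebraMap k K α)) :
    Q.1 y ≤ 1 ∧ ∀ p : Place k (RatFunc k), IsOver Q p → p.1 f ≤ 1 ∧
      ((2 : RatFunc k) = 0 → IsOverWith Q p 1) := by
  have hF := Groth.Funfld2.Rat.isFF (k := k)
  have := finite hdeg
  obtain ⟨p, hp⟩ := hF.exists_isOver Q
  have hf : p.1 f ≤ 1 := hint p fun α hα => not_lt.1 fun h => by
    have := (over_lt_one_iff hp _).2 h
    rw [algebraMap_X_sub] at this
    exact not_lt.2 (hQ α hα) this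
  refine ⟨?_, fun p' hp' => ?_⟩
  · by_contra hgt
    rw [not_le] at hgt
    have h1 : Q.1 (y ^ 2 + y) = Q.1 y ^ 2 := by
      rw [Valuation.map_add_eq_of_lt_left, map_pow]
      rw [map_pow]; exact lt_self_pow₀ hgt one_lt_two
    rw [heq] at h1
    have h3 := (over_le_one_iff hp f).2 hf
    rw [h1] at h3
    exact absurd h3 (not_le.2 (one_lt_pow₀ hgt two_ne_zero))
  · rw [over_unique hp' hp]
    exact ⟨hf, fun h2 => artinSchreier_unram hF hdeg h2 hy heq ((val_le_one_iff p f).1 hf) hp⟩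

omit [IsAlgClosed k] [IsScalarTower k (RatFunc k) K] in
theorem val_sub_eq_of_pole {Q : Place k K}
    (hQ : 1 < Q.1 (algebraMap (RatFunc k) K RatFunc.X)) (α : k) :
    Q.1 (algebraMap (RatFunc k) K RatFunc.X - algebraMap k K α) =
      Q.1 (algebraMap (RatFunc k) K RatFunc.X) :=
  Valuation.map_sub_eq_of_lt_left _ ((Q.2.1 α).trans_lt hQ)

include hdeg hy heq hint in
theorem at_infty (h2 : (2 : RatFunc k) = 0) {Q : Place k K}
    (hQ : 1 < Q.1 (algebraMap (RatFunc k) K RatFunc.X)) (α : k) :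
    Q.1 y ≤ 1 ∧ Q.ord (algebraMap (RatFunc k) K RatFunc.X - algebraMap k K α) = -1 := by
  have hF := Groth.Funfld2.Rat.isFF (k := k)
  have := finite hdeg
  obtain ⟨hy1, hp⟩ := at_regular hdeg hy heq hint (Q := Q) fun β _ => by
    rw [val_sub_eq_of_pole hQ β]; exact hQ.le
  obtain ⟨p, hpo⟩ := hF.exists_isOver Q
  obtain ⟨-, hun⟩ := hp p hpo
  have hX : p.ord (RatFunc.X : RatFunc k) < 0 :=
    (one_lt_val_iff p _).1 (not_le.1 fun h => not_le.2 hQ ((over_le_one_iff hpo _).2 h))
  refine ⟨hy1, ?_⟩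
  rw [← algebraMap_X_sub, overWith_ord (hun h2), X_sub_C_eq,
    (Groth.Funfld2.Rat.ord_poly_inf hX).2 _ (Polynomial.X_sub_C_ne_zero α),
    Polynomial.natDegree_X_sub_C]
  norm_num

section

variable {k F : Type*} [Field k] [Field F] [Algebra k F]

/-- In genus zero a principal part at one place is realised by a function. -/
theorem exists_principal_part (hK : IsFunctionField k F) (hg : genus k F = 0) (p : Place k F)
    (g : F) : ∃ r : F, p.1 (g - r) ≤ 1 ∧ ∀ q : Place k F, q ≠ p → q.1 r ≤ 1 := by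
  classical
  have ha : (Pi.single p g : Place k F → F) ∈ adele k F := by
    refine Filter.eventually_cofinite.mpr ((Set.finite_singleton p).subset fun q hq => ?_)
    by_contra h
    exact hq (by rw [Pi.single_eq_of_ne h, map_zero]; exact zero_le)
  have hq := qfin_adele hK (0 : Divisor k F)
  rw [delta_zero hK, hg, Nat.cast_zero, sub_self] at hq
  rw [← QFin.eq_of_zero hq] at ha
  obtain ⟨u, hu, v, ⟨r, rfl⟩, huv⟩ := Submodule.mem_sup.mp ha
  have key : ∀ q, u q = (Pi.single p g : Place k F → F) q - r := fun q => by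
    rw [eq_sub_iff_add_eq]; exact congrFun huv q
  refine ⟨r, ?_, fun q hqp => ?_⟩
  · have := hu p
    rw [key p, Pi.single_eq_same] at this
    simpa using this
  · have := hu q
    rw [key q, Pi.single_eq_of_ne hqp, zero_sub, Valuation.map_neg] at this
    simpa using this

end

end Groth.Funfld2.Quad
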