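import Groth.Agent.Funfld2.Quad.ASBasis
import Groth.Agent.Funfld2.Hasse.Expansion

/-! A basis of adeles modulo `A(0) + K` for `y² + y = f(x)`. -/

open FunFld Groth.FunFld1
open WithZero (exp)
open scoped WithZero Polynomial

namespace Groth.Funfld2.Quad

section

variable {k : Type*} [Field k]

theorem const_of_forall_le_one {B : RatFunc k} (h : ∀ p : Place k (RatFunc k), p.1 B ≤ 1) :
    ∃ b : k, B = RatFunc.C b := by
  have hR := Groth.Funfld2.Rat.isFF (k := k)
  by_cases htr : Transcendental k B
  · exfalso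
    have := hR.finiteDimensional htr
    have hd := hR.deg_poleDiv_eq htr
    have h0 : zeroDiv k B⁻¹ = 0 := by
      ext p
      rw [hR.zeroDiv_apply, ord_inv, Finsupp.zero_apply]
      have := (val_le_one_iff p B).1 (h p)
      omega
    rw [h0, Groth.FunFld1.deg_zero] at hd
    have hpos : 0 < Module.finrank (IntermediateField.adjoin k ({B} : Set (RatFunc k))) (RatFunc k) :=
      Module.finrank_pos
    omega
  · obtain ⟨b, hb⟩ := (Groth.Funfld2.Rat.isFunctionField (k := k)).2 B (not_not.1 htr)
    exact ⟨b, by rw [← hb, algebraMap_ratC]⟩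

/-- Only one place is centred at a point. -/
theorem place_at_unique {α : k} {p p' : Place k (RatFunc k)}
    (h : p.1 ((RatFunc.X : RatFunc k) - RatFunc.C α) < 1)
    (h' : p'.1 ((RatFunc.X : RatFunc k) - RatFunc.C α) < 1) : p = p' := by
  have key : ∀ (q : Place k (RatFunc k)), q.1 ((RatFunc.X : RatFunc k) - RatFunc.C α) < 1 →
      ∀ a : k[X], a ≠ 0 →
        q.1 (algebraMap k[X] (RatFunc k) a) = exp (-(a.rootMultiplicity α : ℤ)) := by
    intro q hq a ha
    have hne : (RatFunc.X : RatFunc k) - RatFunc.C α ≠ 0 := by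
      rw [X_sub_C_eq]; exact RatFunc.algebraMap_ne_zero (Polynomial.X_sub_C_ne_zero α)
    have hX : q.1 (RatFunc.X : RatFunc k) ≤ 1 := by
      rw [show (RatFunc.X : RatFunc k) = (RatFunc.X - RatFunc.C α) + algebraMap k (RatFunc k) α by
        rw [algebraMap_ratC]; ring]
      exact Valuation.map_add_le _ hq.le (q.2.1 α)
    have h1 : q.1 ((RatFunc.X : RatFunc k) - RatFunc.C α) = exp (-1 : ℤ) := by
      have h2 : q.ord ((RatFunc.X : RatFunc k) - RatFunc.C α) ≤ 1 := by
        rw [X_sub_C_eq]
        exact Groth.Funfld2.Rat.ord_squarefree_le_one ((val_le_one_iff q _).1 hX)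
          (Polynomial.irreducible_X_sub_C α).squarefree
      rw [val_eq_exp_neg_ord q hne, le_antisymm h2 ((val_lt_one_iff q hne).1 hq)]
    obtain ⟨g, hg, hgα⟩ := a.exists_eq_pow_rootMultiplicity_mul_and_not_dvd ha α
    conv_lhs => rw [hg]
    have hgev : g.eval α ≠ 0 := fun e => hgα (Polynomial.dvd_iff_isRoot.2 e)
    obtain ⟨w, hw⟩ : Polynomial.X - Polynomial.C α ∣ g - Polynomial.C (g.eval α) :=
      Polynomial.X_sub_C_dvd_sub_C_eval
    have hgv : q.1 (algebraMap k[X] (RatFunc k) g) = 1 := by
      rw [show g = Polynomial.C (g.eval α) + (Polynomial.X - Polynomial.C α) * w by rw [← hw]; ring,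
        map_add, map_mul, ← X_sub_C_eq, Groth.Funfld2.Rat.ι_C,
        Valuation.map_add_eq_of_lt_left, val_algebraMap q hgev]
      rw [val_algebraMap q hgev, map_mul]
      exact (mul_le_of_le_one_right' (Groth.Funfld2.Rat.val_poly_le_one
        ((val_le_one_iff q _).1 hX) w)).trans_lt hq
    rw [map_mul, map_pow, ← X_sub_C_eq, map_mul, map_pow, hgv, mul_one, h1, ← WithZero.exp_nsmul,
      nsmul_eq_mul]
    congr 1; ring
  refine Place.eq_of_forall_le_one p p' fun z hz => ?_
  by_cases hz0 : z = 0
  · simp [hz0]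
  rw [← RatFunc.num_div_denom z, map_div₀, key p h _ (RatFunc.num_ne_zero hz0),
    key p h _ z.denom_ne_zero] at hz
  rw [← RatFunc.num_div_denom z, map_div₀, key p' h' _ (RatFunc.num_ne_zero hz0),
    key p' h' _ z.denom_ne_zero]
  exact hz

/-- A polynomial in a parameter vanishing to higher order than its degree is zero. -/
theorem poly_eq_zero_of_val_le {K : Type*} [Field K] [Algebra k K] (P : Place k K) {u : K}
    (hu : P.1 u = exp (-1 : ℤ)) {S : k[X]} {n : ℕ} (hdeg : ∀ j, n ≤ j → S.coeff j = 0)
    (h : P.1 (Polynomial.aeval u S) ≤ exp (-(n : ℤ))) : S = 0 := by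
  classical
  by_contra hS
  have hne : S.support.Nonempty := Polynomial.support_nonempty.2 hS
  set m := S.support.min' hne with hm
  have hmn : m < n := by
    by_contra hge
    exact Polynomial.mem_support_iff.1 (S.support.min'_mem hne) (hdeg m (not_lt.1 hge))
  have hterm : ∀ j ∈ S.support, P.1 (S.coeff j • u ^ j) = exp (-(j : ℤ)) := by
    intro j hj
    rw [Algebra.smul_def, map_mul, val_algebraMap P (Polynomial.mem_support_iff.1 hj), one_mul,
      map_pow, hu, ← WithZero.exp_nsmul, nsmul_eq_mul]
    congr 1; ring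
  have hval : P.1 (Polynomial.aeval u S) = exp (-(m : ℤ)) := by
    rw [Polynomial.aeval_eq_sum_range' (Nat.lt_succ_self _),
      ← Finset.sum_subset (s₁ := S.support) Polynomial.supp_subset_range_natDegree_succ
        (fun j _ hj => by rw [Polynomial.notMem_support_iff.1 hj, zero_smul]),
      Valuation.map_sum_eq_of_lt (v := P.1) (S.support.min'_mem hne) fun j hj => ?_,
      hterm m (S.support.min'_mem hne)]
    simp only [Finset.mem_sdiff, Finset.mem_singleton] at hj
    rw [hterm j hj.1, ← hm, hterm m (S.support.min'_mem hne), WithZero.exp_lt_exp]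
    have := S.support.min'_le j hj.1
    omega
  rw [hval, WithZero.exp_le_exp] at h
  omega

end

section

variable {k K : Type*} [Field k] [IsAlgClosed k] [Field K] [Algebra k K] [Algebra (RatFunc k) K]
  [IsScalarTower k (RatFunc k) K] [Algebra.IsSeparable (RatFunc k) K]
  (hK : IsFunctionField k K) (hdeg : Module.finrank (RatFunc k) K = 2) (h2 : ringChar k = 2)
  {y : K} (hy : y ∉ Set.range (algebraMap (RatFunc k) K)) {f : RatFunc k}
  (heq : y ^ 2 + y = algebraMap (RatFunc k) K f)
  {B : Finset k} (h0 : (0 : k) ∈ B) {d : k → ℕ} (hd : ∀ α ∈ B, Odd (d α))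
  (hpole : ∀ (p : Place k (RatFunc k)) (α : k), α ∈ B →
    p.1 ((RatFunc.X : RatFunc k) - RatFunc.C α) < 1 → p.ord f = -(d α : ℤ))
  (hint : ∀ p : Place k (RatFunc k),
    (∀ α ∈ B, 1 ≤ p.1 ((RatFunc.X : RatFunc k) - RatFunc.C α)) → p.1 f ≤ 1)
  (Pl : k → Place k K)
  (hPl : ∀ β ∈ B, (Pl β).1 ((algebraMap (RatFunc k) K RatFunc.X) - (algebraMap k K β)) < 1)

/-- The family of repartitions. -/
noncomputable def adeleFam [DecidableEq (Place k K)] (y : K) (Pl : k → Place k K)
    (i : ASIdx B d) : Place k K → K :=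
  Pi.single (Pl (asPt B d i))
    (y * (algebraMap (RatFunc k) K RatFunc.X - algebraMap k K (asPt B d i)) ^ (asOrd B d i - 1))

omit [IsAlgClosed k] in
theorem asPt_mem (i : ASIdx B d) : asPt B d i ∈ B := by
  rcases i with a | b
  exacts [a.1.1.2, b.1.2]

omit [IsAlgClosed k] in
theorem asIdx_ext {i j : ASIdx B d} (h1 : asPt B d i = asPt B d j)
    (h2 : asOrd B d i = asOrd B d j) : i = j := by
  rcases i with a | b <;> rcases j with a' | b' <;>
    simp only [asPt, asOrd, Sum.elim_inl, Sum.elim_inr] at h1 h2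
  · exact congrArg Sum.inl (Subtype.ext (Prod.ext (Subtype.ext h1) (by omega)))
  · exact absurd a.2.1 (by omega)
  · exact absurd a'.2.1 (by omega)
  · exact congrArg Sum.inr (Subtype.ext (Subtype.ext h1))

include hK hdeg h2 hy heq h0 hd hpole hint in
theorem card_eq_genus : Fintype.card (ASIdx B d) = genus k K := by
  classical
  have hF := IsFF.of_isFunctionField hK
  have hgeo := isGeometric (k := k) (K := K) hK
  choose t _ ht using fun P : Place k K => exists_uniformizer P
  let φ : Place k K → (K →ₐ[k] LaurentSeries k) := fun P =>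
    Groth.Funfld2.Hasse.expansion (deg_eq_one_of_isAlgClosed hF P) (ht P)
  have hφ : ∀ P, LocRes.IsExpansionAt P.1 (φ P) := fun P =>
    Groth.Funfld2.Hasse.isExpansionAt_expansion _ _
  obtain ⟨hreg, hli, hspan⟩ := as_basis hK hdeg h2 hy heq h0 hd hpole hint (fun _ => k) φ hφ
  obtain ⟨-, C, hC, hCP⟩ := Residue.exists_canonical hK φ hφ hgeo (u := 1)
    one_ne_zero (D_x_ne_zero (k := k) (K := K))
  have hcan : IsCanonical k K C :=
    ⟨_, Residue.resForm_ne_zero hK φ hφ hgeo one_ne_zero (D_x_ne_zero (k := k) (K := K)), hC⟩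
  have hiff : ∀ z : K, (∀ P, LocRes.vDiff (φ P) z (algebraMap (RatFunc k) K RatFunc.X) ≤ 1) ↔
      z ∈ L C := by
    intro z
    have := Groth.Funfld2.Residue.forall_vDiff_le_iff hK φ hφ hgeo (D_x_ne_zero (k := k) (K := K))
      hCP 0 z
    simpa using this
  have heqL : Submodule.span k (Set.range fun i => algebraMap (RatFunc k) K (asFam B d i)) = L C :=
    le_antisymm (Submodule.span_le.2 (by rintro _ ⟨i, rfl⟩; exact (hiff _).1 (hreg i)))
      fun z hz => hspan z ((hiff z).2 hz)
  have h := finrank_span_eq_card hli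
  rw [heqL] at h
  rw [← ell_canonical hK hcan, ← h]
  rfl

omit [Algebra.IsSeparable (RatFunc k) K] in
include hdeg h2 hy heq h0 hd hpole hint hPl in
theorem adeleFam_indep [DecidableEq (Place k K)] (c : ASIdx B d → k)
    (hc : ∑ i, c i • adeleFam y Pl i ∈
      AD (0 : Divisor k K) ⊔ LinearMap.range (diag k K)) : ∀ i, c i = 0 := by
  classical
  have hR := Groth.Funfld2.Rat.isFF (k := k)
  have := finite hdeg
  have h2F := two_eq_zero_ratFunc (k := k) h2
  have h2K : (2 : K) = 0 := by rw [← map_ofNat (algebraMap (RatFunc k) K) 2, h2F, map_zero]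
  have hy0 : y ≠ 0 := fun e => hy ⟨0, by rw [e, map_zero]⟩
  set xK := algebraMap (RatFunc k) K RatFunc.X with hxK
  have hinj : ∀ α ∈ B, ∀ β ∈ B, Pl α = Pl β → α = β := by
    intro α hα β hβ h
    by_contra hne
    have h1 := sep_of_val_lt (Pl β) xK (a := α) (b := β) (Ne.symm hne) (hPl β hβ)
    exact absurd h1 (ne_of_lt (h ▸ hPl α hα))
  obtain ⟨a, ha, v, ⟨r, rfl⟩, har⟩ := Submodule.mem_sup.1 hc
  have hval : ∀ Q : Place k K, Q.1 ((∑ i, c i • adeleFam y Pl i) Q - r) ≤ 1 := fun Q => by
    rw [← har]
    simpa [diag_apply] using ha Q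
  let S : k → k[X] := fun α => ∑ i ∈ Finset.univ.filter (fun i => asPt B d i = α),
    Polynomial.C (c i) * Polynomial.X ^ (asOrd B d i - 1)
  have hat : ∀ α ∈ B, (∑ i, c i • adeleFam y Pl i) (Pl α) =
      y * Polynomial.aeval (xK - algebraMap k K α) (S α) := by
    intro α hα
    simp only [S, map_sum, Finset.mul_sum,
      Finset.sum_apply, Pi.smul_apply, Finset.sum_filter]
    refine Finset.sum_congr rfl fun i _ => ?_
    simp only [adeleFam]
    split_ifs with h
    · rw [h, Pi.single_eq_same, Algebra.smul_def, ← hxK, map_mul, map_pow, Polynomial.aeval_X,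
        Polynomial.aeval_C]
      ring
    · rw [Pi.single_eq_of_ne (fun e => h (hinj _ hα _ (asPt_mem i) e).symm), smul_zero, map_zero,
        mul_zero]
  have hout : ∀ Q : Place k K, (∀ α ∈ B, Q ≠ Pl α) → (∑ i, c i • adeleFam y Pl i) Q = 0 := by
    intro Q hQ
    simp only [Finset.sum_apply, Pi.smul_apply, adeleFam]
    exact Finset.sum_eq_zero fun i _ => by rw [Pi.single_eq_of_ne (hQ _ (asPt_mem i)), smul_zero]
  obtain ⟨A, Bc, hr⟩ := decomp hdeg hy r
  -- what integrality of `r - y S` gives at a pole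
  have hbranch : ∀ α ∈ B, ∃ p : Place k (RatFunc k),
      p.1 ((RatFunc.X : RatFunc k) - RatFunc.C α) = exp (-1 : ℤ) ∧
      p.1 (Polynomial.aeval ((RatFunc.X : RatFunc k) - RatFunc.C α) (S α) - Bc) ≤
        exp (-(((d α + 1) / 2 : ℕ) : ℤ)) := by
    intro α hα
    obtain ⟨p, he, -, -, hu, hoy, -, -⟩ := at_pole hdeg hy heq hd hpole hα (hPl α hα)
    have hune : (RatFunc.X : RatFunc k) - RatFunc.C α ≠ 0 := by
      rw [X_sub_C_eq]; exact RatFunc.algebraMap_ne_zero (Polynomial.X_sub_C_ne_zero α)
    refine ⟨p, by rw [val_eq_exp_neg_ord p hune, hu], ?_⟩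
    set D := Polynomial.aeval ((RatFunc.X : RatFunc k) - RatFunc.C α) (S α) - Bc with hD
    by_cases hD0 : D = 0
    · rw [hD0, map_zero]; exact zero_le
    have hkey : (∑ i, c i • adeleFam y Pl i) (Pl α) - r =
        algebraMap (RatFunc k) K D * y - algebraMap (RatFunc k) K A := by
      rw [hat α hα, hr, hD, map_sub, ← Polynomial.aeval_algebraMap_apply, algebraMap_X_sub, ← hxK]
      ring
    have h1 := hval (Pl α)
    rw [hkey] at h1
    have hDK : algebraMap (RatFunc k) K D ≠ 0 := by simpa using hD0
    have hvD : (Pl α).1 (algebraMap (RatFunc k) K D * y) =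
        exp (-(2 * p.ord D - (d α : ℤ))) := by
      rw [val_eq_exp_neg_ord _ (mul_ne_zero hDK hy0), ord_mul _ hDK hy0, overWith_ord he, hoy]
      congr 1
    have hvA : (Pl α).1 (algebraMap (RatFunc k) K A) ≠ (Pl α).1 (algebraMap (RatFunc k) K D * y) := by
      rw [hvD]
      by_cases hA : A = 0
      · rw [hA, map_zero, map_zero]; exact WithZero.exp_ne_zero.symm
      · rw [val_eq_exp_neg_ord _ (show algebraMap (RatFunc k) K A ≠ 0 by simpa using hA),
          overWith_ord he, Ne, WithZero.exp_inj]
        obtain ⟨m, hm⟩ := hd α hα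
        push_cast
        omega
    have h3 : (Pl α).1 (algebraMap (RatFunc k) K D * y) ≤ 1 := by
      rcases lt_or_gt_of_ne hvA with h | h
      · rwa [Valuation.map_sub_eq_of_lt_left _ h] at h1
      · rw [Valuation.map_sub_eq_of_lt_right _ h] at h1
        exact h.le.trans h1
    rw [hvD, ← WithZero.exp_zero, WithZero.exp_le_exp] at h3
    rw [val_eq_exp_neg_ord p hD0, WithZero.exp_le_exp]
    obtain ⟨m, hm⟩ := hd α hα
    push_cast
    omega
  -- the `y`-coefficient has no poles
  have hBint : ∀ p : Place k (RatFunc k), p.1 Bc ≤ 1 := by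
    intro p
    by_cases hex : ∃ α ∈ B, p.1 ((RatFunc.X : RatFunc k) - RatFunc.C α) < 1
    · obtain ⟨α, hα, hlt⟩ := hex
      obtain ⟨p', hp', hb⟩ := hbranch α hα
      have hpp : p' = p := place_at_unique (by
        rw [hp', ← WithZero.exp_zero, WithZero.exp_lt_exp]; norm_num) hlt
      subst hpp
      have h4 : p'.1 (Polynomial.aeval ((RatFunc.X : RatFunc k) - RatFunc.C α) (S α)) ≤ 1 := by
        rw [Polynomial.aeval_eq_sum_range]
        refine Valuation.map_sum_le _ fun j _ => ?_
        rw [Algebra.smul_def, map_mul, map_pow]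
        exact mul_le_one' (p'.2.1 _) (pow_le_one₀ zero_le hlt.le)
      have : Bc = Polynomial.aeval ((RatFunc.X : RatFunc k) - RatFunc.C α) (S α) -
          (Polynomial.aeval ((RatFunc.X : RatFunc k) - RatFunc.C α) (S α) - Bc) := by ring
      rw [this]
      exact Valuation.map_sub_le _ h4 (hb.trans (by rw [← WithZero.exp_zero, WithZero.exp_le_exp]; omega))
    · push Not at hex
      have hfle := hint p hex
      by_contra hgt
      rw [not_le] at hgt
      have hB0 : Bc ≠ 0 := fun e => by rw [e, map_zero] at hgt; exact not_lt_zero hgt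
      have hne : ∀ Q : Place k K, IsOver Q p → ∀ α ∈ B, Q ≠ Pl α := by
        intro Q hQ α hα e
        have h1 := hPl α hα
        rw [← e, ← algebraMap_X_sub] at h1
        exact not_lt.2 (hex α hα) ((over_lt_one_iff hQ _).1 h1)
      have hrle : ∀ Q : Place k K, IsOver Q p → Q.1 r ≤ 1 := fun Q hQ => by
        have := hval Q
        rwa [hout Q (hne Q hQ), zero_sub, Valuation.map_neg] at this
      rcases lt_or_ge (p.1 Bc) (p.1 A) with hAB | hAB
      · obtain ⟨Q, hQ⟩ := hR.exists_over (K' := K) p
        have he := isOverWith_ramIdx hQ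
        have hy1 : Q.1 y ≤ 1 := by
          refine (at_regular hdeg hy heq hint (Q := Q) fun α hα => ?_).1
          rw [← algebraMap_X_sub, he]
          exact one_le_pow₀ (hex α hα)
        have h1 : Q.1 (algebraMap (RatFunc k) K Bc * y) < Q.1 (algebraMap (RatFunc k) K A) := by
          rw [map_mul, he, he]
          exact (mul_le_of_le_one_right' hy1).trans_lt
            (pow_lt_pow_left₀ hAB zero_le (overWith_pos he).ne')
        have h2 := hrle Q hQ
        rw [hr, Valuation.map_add_eq_of_lt_left _ h1, he,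
          pow_le_one_iff_of_nonneg zero_le (overWith_pos he).ne'] at h2
        exact not_lt.2 h2 (hgt.trans hAB)
      · set a₀ := A / Bc with ha₀
        have ha1 : p.1 a₀ ≤ 1 := by
          rw [ha₀, map_div₀, div_le_one₀ (zero_lt_iff.2 ((Valuation.ne_zero_iff _).2 hB0))]
          exact hAB
        obtain ⟨Q, hQ, hQu⟩ := exists_unit_above hR hdeg h2F
          (y := y + algebraMap (RatFunc k) K a₀)
          (fun ⟨z, hz⟩ => hy ⟨z - a₀, by rw [map_sub, hz, add_sub_cancel_right]⟩)
          (f := f + (a₀ ^ 2 + a₀)) (by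
            rw [map_add, map_add, map_pow, ← heq]
            linear_combination (y * algebraMap (RatFunc k) K a₀) * h2K) p
          (Valuation.map_add_le _ hfle (Valuation.map_add_le _
            (by rw [map_pow]; exact pow_le_one₀ zero_le ha1) ha1))
        have he := isOverWith_ramIdx hQ
        have hne' : y + algebraMap (RatFunc k) K a₀ ≠ 0 := fun e =>
          hy ⟨-a₀, by rw [map_neg]; linear_combination -e⟩
        have hr' : r = algebraMap (RatFunc k) K Bc * (y + algebraMap (RatFunc k) K a₀) := by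
          rw [hr, ha₀, map_div₀]
          have : algebraMap (RatFunc k) K Bc ≠ 0 := by simpa using hB0
          field_simp
          ring
        have h2 := hrle Q hQ
        rw [hr', map_mul, (val_eq_one_iff Q hne').2 hQu, mul_one, he,
          pow_le_one_iff_of_nonneg zero_le (overWith_pos he).ne'] at h2
        exact not_lt.2 h2 hgt
  obtain ⟨b, hb⟩ := const_of_forall_le_one hBint
  have hS : ∀ α ∈ B, S α = Polynomial.C b := by
    intro α hα
    obtain ⟨p, hu, hle⟩ := hbranch α hα
    rw [hb, show RatFunc.C b = Polynomial.aeval ((RatFunc.X : RatFunc k) - RatFunc.C α)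
        (Polynomial.C b) by rw [Polynomial.aeval_C, algebraMap_ratC], ← map_sub] at hle
    refine sub_eq_zero.1 (poly_eq_zero_of_val_le p hu (fun j hj => ?_) hle)
    obtain ⟨m, hm⟩ := hd α hα
    rw [Polynomial.coeff_sub, Polynomial.coeff_C, if_neg (by omega), sub_zero]
    simp only [S, Polynomial.finsetSum_coeff, Polynomial.coeff_C_mul, Polynomial.coeff_X_pow]
    refine Finset.sum_eq_zero fun i hi => ?_
    simp only [Finset.mem_filter, Finset.mem_univ, true_and] at hi
    rw [if_neg, mul_zero]
    rcases i with a' | b'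
    · have h5 := a'.2.2
      simp only [asPt, Sum.elim_inl] at hi
      rw [hi] at h5
      simp only [asOrd, Sum.elim_inl]
      omega
    · simp only [asOrd, Sum.elim_inr]
      omega
  have hcoef : ∀ i, (S (asPt B d i)).coeff (asOrd B d i - 1) = c i := by
    intro i
    simp only [S, Polynomial.finsetSum_coeff, Polynomial.coeff_C_mul, Polynomial.coeff_X_pow]
    rw [Finset.sum_eq_single_of_mem i (by simp) fun j hj hne => ?_, if_pos rfl, mul_one]
    simp only [Finset.mem_filter, Finset.mem_univ, true_and] at hj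
    rw [if_neg, mul_zero]
    intro e
    refine hne (asIdx_ext hj ?_)
    have hp : ∀ i : ASIdx B d, 1 ≤ asOrd B d i := by
      rintro (a' | b') <;> simp [asOrd]
    have := hp i; have := hp j
    omega
  have hb0 : b = 0 := by
    have h5 := congrArg (fun q : k[X] => q.coeff 0) (hS 0 h0)
    simp only [S, Polynomial.finsetSum_coeff, Polynomial.coeff_C_mul, Polynomial.coeff_X_pow,
      Polynomial.coeff_C_zero] at h5
    rw [← h5]
    refine Finset.sum_eq_zero fun i hi => ?_
    simp only [Finset.mem_filter, Finset.mem_univ, true_and] at hi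
    rw [if_neg, mul_zero]
    rcases i with a' | b'
    · simp only [asOrd, Sum.elim_inl]
      have := a'.2.1
      omega
    · exact absurd hi b'.2
  intro i
  rw [← hcoef i, hS _ (asPt_mem i), hb0, map_zero, Polynomial.coeff_zero]

include hK hdeg h2 hy heq h0 hd hpole hint hPl in
theorem as_adele_basis [DecidableEq (Place k K)] :
    (∀ i : ASIdx B d, adeleFam y Pl i ∈ adele k K) ∧
    LinearIndependent k (fun i : ASIdx B d =>
      Submodule.mkQ (AD (0 : Divisor k K) ⊔ LinearMap.range (diag k K)) (adeleFam y Pl i)) ∧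
    ∀ a ∈ adele k K, a ∈ (AD (0 : Divisor k K) ⊔ LinearMap.range (diag k K)) ⊔
      Submodule.span k (Set.range (adeleFam (B := B) (d := d) y Pl)) := by
  classical
  have hmem : ∀ i : ASIdx B d, adeleFam y Pl i ∈ adele k K := fun i =>
    Filter.eventually_cofinite.mpr ((Set.finite_singleton (Pl (asPt B d i))).subset fun Q hQ => by
      by_contra h
      exact hQ (by rw [adeleFam, Pi.single_eq_of_ne h, map_zero]; exact zero_le))
  set W := AD (0 : Divisor k K) ⊔ LinearMap.range (diag k K) with hW
  have hker : ∀ c : ASIdx B d → k, ∑ i, c i • adeleFam y Pl i ∈ W → ∀ i, c i = 0 := fun c hc =>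
    adeleFam_indep hdeg h2 hy heq h0 hd hpole hint Pl hPl c hc
  refine ⟨hmem, ?_, fun a ha => ?_⟩
  · rw [Fintype.linearIndependent_iff]
    intro c hc
    refine hker c ?_
    rw [← Submodule.Quotient.mk_eq_zero, ← Submodule.mkQ_apply, map_sum]
    simpa using hc
  · obtain ⟨-, hfin, hrank⟩ := qfin_adele hK (0 : Divisor k K)
    rw [delta_zero hK, sub_zero, Int.toNat_natCast, ← card_eq_genus hK hdeg h2 hy heq h0 hd hpole hint]
      at hrank
    rw [← hW] at hrank hfin
    let v : ASIdx B d → (↥(adele k K) ⧸ Submodule.comap (adele k K).subtype W) := fun i =>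
      Submodule.Quotient.mk ⟨adeleFam y Pl i, hmem i⟩
    have hli : LinearIndependent k v := by
      rw [Fintype.linearIndependent_iff]
      intro c hc
      refine hker c ?_
      have : (Submodule.comap (adele k K).subtype W).mkQ (∑ i, c i • ⟨adeleFam y Pl i, hmem i⟩) = 0 := by
        rw [map_sum]; simp only [map_smul, Submodule.mkQ_apply]; exact hc
      rw [Submodule.mkQ_apply, Submodule.Quotient.mk_eq_zero, Submodule.mem_comap, map_sum] at this
      simpa using this
    have htop := hli.span_eq_top_of_card_eq_finrank' hrank.symm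
    have hmem' : (Submodule.Quotient.mk (⟨a, ha⟩ : ↥(adele k K)) :
        ↥(adele k K) ⧸ Submodule.comap (adele k K).subtype W) ∈ Submodule.span k (Set.range v) :=
      htop ▸ Submodule.mem_top
    obtain ⟨c, hc⟩ := (Submodule.mem_span_range_iff_exists_fun k).1 hmem'
    have hsub : a - ∑ i, c i • adeleFam y Pl i ∈ W := by
      have h6 : (Submodule.comap (adele k K).subtype W).mkQ
          (⟨a, ha⟩ - ∑ i, c i • ⟨adeleFam y Pl i, hmem i⟩) = 0 := by
        rw [map_sub, map_sum, sub_eq_zero]
        simp only [map_smul, Submodule.mkQ_apply]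
        exact hc.symm
      rw [Submodule.mkQ_apply, Submodule.Quotient.mk_eq_zero, Submodule.mem_comap, map_sub, map_sum]
        at h6
      simpa using h6
    have := Submodule.add_mem_sup hsub (Submodule.sum_mem
      (Submodule.span k (Set.range (adeleFam (B := B) (d := d) y Pl)))
      (t := Finset.univ) (f := fun i => c i • adeleFam y Pl i)
      fun i _ => Submodule.smul_mem _ _ (Submodule.subset_span ⟨i, rfl⟩))
    rwa [sub_add_cancel] at this

end

end Groth.Funfld2.Quad
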