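import Groth.Agent.Funfld2.Quad.ASDiff
import Groth.Agent.Funfld2.Quad.AS
import Mathlib.LinearAlgebra.Dimension.Finrank

/-! A basis of the regular differentials of `y² + y = f(x)` by partial fractions. -/

open FunFld Groth.FunFld1
open WithZero (exp)
open scoped WithZero Polynomial

namespace Groth.Funfld2.Quad

section

variable {k : Type*} [Field k]

theorem algebraMap_ratC (a : k) : algebraMap k (RatFunc k) a = RatFunc.C a := by
  rw [RatFunc.algebraMap_eq_C]

theorem exists_place_at (α : k) :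
    ∃ p : Place k (RatFunc k), p.1 ((RatFunc.X : RatFunc k) - RatFunc.C α) = exp (-1 : ℤ) := by
  have hR := Groth.Funfld2.Rat.isFF (k := k)
  have htr : Transcendental k ((RatFunc.X : RatFunc k) - RatFunc.C α) := fun h => by
    refine Groth.Funfld2.Rat.transcendental_X (k := k) ?_
    have h2 := h.add (isAlgebraic_algebraMap (R := k) (A := RatFunc k) α)
    rwa [algebraMap_ratC, sub_add_cancel] at h2
  have hne : (RatFunc.X : RatFunc k) - RatFunc.C α ≠ 0 := fun e => htr (e ▸ isAlgebraic_zero)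
  have hd := hR.deg_zeroDiv_eq htr
  obtain ⟨p, hp⟩ : ∃ p : Place k (RatFunc k), 0 < p.ord ((RatFunc.X : RatFunc k) - RatFunc.C α) := by
    by_contra! hall
    have h0 : zeroDiv k ((RatFunc.X : RatFunc k) - RatFunc.C α) = 0 := by
      ext p
      rw [hR.zeroDiv_apply, Finsupp.zero_apply, max_eq_right (hall p)]
    rw [h0, Groth.FunFld1.deg_zero] at hd
    have := hR.finiteDimensional htr
    have hpos : 0 < Module.finrank (IntermediateField.adjoin k
        ({(RatFunc.X : RatFunc k) - RatFunc.C α} : Set (RatFunc k))) (RatFunc k) :=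
      Module.finrank_pos
    omega
  refine ⟨p, ?_⟩
  have hlt := (val_lt_one_iff p hne).2 hp
  have hX : 0 ≤ p.ord (RatFunc.X : RatFunc k) := by
    rw [← val_le_one_iff p, show (RatFunc.X : RatFunc k) =
      (RatFunc.X - RatFunc.C α) + algebraMap k (RatFunc k) α by rw [algebraMap_ratC]; ring]
    exact Valuation.map_add_le _ hlt.le (p.2.1 α)
  have h1 : p.ord ((RatFunc.X : RatFunc k) - RatFunc.C α) ≤ 1 := by
    rw [X_sub_C_eq]
    exact Groth.Funfld2.Rat.ord_squarefree_le_one hX (Polynomial.irreducible_X_sub_C α).squarefree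
  rw [val_eq_exp_neg_ord p hne, le_antisymm h1 hp]

variable (B : Finset k) (d : k → ℕ)

/-- Index type of the partial fraction family. -/
abbrev ASIdx : Type _ :=
  {a : ↥B × ℕ // 1 ≤ a.2 ∧ 2 * a.2 + 1 ≤ d (a.1 : k)} ⊕ {b : ↥B // (b : k) ≠ 0}

/-- The partial fraction family. -/
noncomputable def asFam : ASIdx B d → RatFunc k :=
  Sum.elim (fun a => ((RatFunc.X : RatFunc k) - RatFunc.C (a.1.1 : k))⁻¹ ^ (a.1.2 + 1))
    fun b => RatFunc.C (b.1 : k) /
      ((RatFunc.X : RatFunc k) * ((RatFunc.X : RatFunc k) - RatFunc.C (b.1 : k)))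

/-- The pole point. -/
def asPt : ASIdx B d → k := Sum.elim (fun a => (a.1.1 : k)) fun b => (b.1 : k)

/-- The pole order. -/
def asOrd : ASIdx B d → ℕ := Sum.elim (fun a => a.1.2 + 1) fun _ => 1

/-- Split the index type along the points. -/
def asEquiv : {a : ↥B × ℕ // 1 ≤ a.2 ∧ 2 * a.2 + 1 ≤ d (a.1 : k)} ≃
    Σ α : ↥B, Fin ((d (α : k) - 1) / 2) where
  toFun a := ⟨a.1.1, ⟨a.1.2 - 1, by have := a.2; omega⟩⟩
  invFun s := ⟨(s.1, s.2.1 + 1), by have := s.2.2; simp only; omega⟩
  left_inv a := by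
    obtain ⟨⟨α, j⟩, hj, hj'⟩ := a
    simp only at hj
    simp only [Subtype.mk.injEq, Prod.mk.injEq, true_and]
    omega
  right_inv s := by
    obtain ⟨α, j⟩ := s
    simp

noncomputable instance : Fintype (ASIdx B d) := by
  classical
  exact @instFintypeSum _ _ (Fintype.ofEquiv _ (asEquiv B d).symm) inferInstance

theorem card_asIdx (h0 : (0 : k) ∈ B) (hd : ∀ α ∈ B, Odd (d α)) :
    Fintype.card (ASIdx B d) + 1 = ∑ α ∈ B, (d α + 1) / 2 := by
  classical
  have : Finite {a : ↥B × ℕ // 1 ≤ a.2 ∧ 2 * a.2 + 1 ≤ d (a.1 : k)} :=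
    Finite.of_equiv _ (asEquiv B d).symm
  rw [← Nat.card_eq_fintype_card, Nat.card_sum, Nat.card_congr (asEquiv B d), Nat.card_sigma]
  have h1 : Nat.card {b : ↥B // (b : k) ≠ 0} + 1 = B.card := by
    rw [Nat.card_eq_fintype_card, Fintype.card_subtype]
    have h2 : (Finset.univ.filter fun b : ↥B => (b : k) ≠ 0) = Finset.univ.erase ⟨0, h0⟩ := by
      ext b
      simp [Subtype.ext_iff]
    rw [h2, Finset.card_erase_of_mem (Finset.mem_univ _), Finset.card_univ, Fintype.card_coe]
    have := Finset.card_pos.2 ⟨_, h0⟩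
    omega
  rw [add_assoc, h1, ← Finset.sum_coe_sort B (fun α => (d α + 1) / 2)]
  simp only [Nat.card_fin]
  rw [show B.card = ∑ _α : ↥B, 1 by simp, ← Finset.sum_add_distrib]
  refine Finset.sum_congr rfl fun α _ => ?_
  obtain ⟨m, hm⟩ := hd α.1 α.2
  omega

theorem linearIndependent_asFam : LinearIndependent k (asFam B d) := by
  classical
  rw [Fintype.linearIndependent_iff]
  intro c hc i
  by_contra hi
  obtain ⟨i₀, hi₀, hmax⟩ := Finset.exists_max_image
    (Finset.univ.filter fun i => c i ≠ 0) (asOrd B d) ⟨i, by simp [hi]⟩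
  simp only [Finset.mem_filter, Finset.mem_univ, true_and] at hi₀ hmax
  obtain ⟨p, hp⟩ := exists_place_at (asPt B d i₀)
  have hX : (RatFunc.X : RatFunc k) - RatFunc.C (asPt B d i₀) ≠ 0 := ne_zero_of_val_eq hp
  have hsep : ∀ β, β ≠ asPt B d i₀ → p.1 ((RatFunc.X : RatFunc k) - RatFunc.C β) = 1 := by
    intro β hβ
    have := sep_of_val_lt p (RatFunc.X : RatFunc k) (a := β) (b := asPt B d i₀) (Ne.symm hβ) (by
      rw [algebraMap_ratC, hp, ← WithZero.exp_zero, WithZero.exp_lt_exp]; norm_num)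
    rwa [algebraMap_ratC] at this
  have hC : ∀ α : k, α ≠ 0 → p.1 (RatFunc.C α) = 1 := fun α hα => by
    have := val_algebraMap p (c := α) hα
    rwa [algebraMap_ratC] at this
  have hfirst : ∀ a : {a : ↥B × ℕ // 1 ≤ a.2 ∧ 2 * a.2 + 1 ≤ d (a.1 : k)},
      p.1 (asFam B d (Sum.inl a)) =
        exp (if (a.1.1 : k) = asPt B d i₀ then ((a.1.2 + 1 : ℕ) : ℤ) else 0) := by
    intro a
    simp only [asFam, Sum.elim_inl, map_pow, map_inv₀]
    split_ifs with h
    · rw [h, hp, ← WithZero.exp_neg, ← WithZero.exp_nsmul, nsmul_eq_mul]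
      congr 1; ring
    · rw [hsep _ h, inv_one, one_pow, WithZero.exp_zero]
  have hsecond : ∀ b : {b : ↥B // (b : k) ≠ 0},
      p.1 (asFam B d (Sum.inr b)) =
        exp (if (b.1 : k) = asPt B d i₀ ∨ asPt B d i₀ = 0 then (1 : ℤ) else 0) := by
    intro b
    simp only [asFam, Sum.elim_inr, map_div₀, map_mul, hC _ b.2, one_div, mul_inv]
    have hX0 : asPt B d i₀ ≠ 0 → p.1 (RatFunc.X : RatFunc k) = 1 := fun h => by
      have := hsep 0 (Ne.symm h)
      rwa [map_zero, sub_zero] at this
    by_cases h : (b.1 : k) = asPt B d i₀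
    · rw [if_pos (Or.inl h), h, hp, hX0 (h ▸ b.2), inv_one, one_mul, ← WithZero.exp_neg]
      norm_num
    · rw [hsep _ h, inv_one, mul_one]
      by_cases h' : asPt B d i₀ = 0
      · rw [if_pos (Or.inr h')]
        rw [h', map_zero, sub_zero] at hp
        rw [hp, ← WithZero.exp_neg]; norm_num
      · rw [if_neg (not_or.2 ⟨h, h'⟩), hX0 h', inv_one, WithZero.exp_zero]
  have htop : p.1 (asFam B d i₀) = exp ((asOrd B d i₀ : ℕ) : ℤ) := by
    rcases i₀ with a | b
    · rw [hfirst a, if_pos (by rfl)]; rfl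
    · rw [hsecond b, if_pos (Or.inl (show (b.1 : k) = asPt B d (Sum.inr b) from rfl))]; rfl
  have hlt : ∀ j, c j ≠ 0 → j ≠ i₀ → p.1 (asFam B d j) < exp ((asOrd B d i₀ : ℕ) : ℤ) := by
    intro j hj hne
    have hle := hmax j hj
    rcases j with a | b
    · rw [hfirst a, WithZero.exp_lt_exp]
      split_ifs with h
      · rcases i₀ with a₀ | b₀
        · simp only [asPt, Sum.elim_inl] at h
          simp only [asOrd, Sum.elim_inl] at hle ⊢
          have h' : a.1.1 = a₀.1.1 := Subtype.ext h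
          have hne' : a.1.2 ≠ a₀.1.2 := fun e => hne (congrArg Sum.inl (Subtype.ext (Prod.ext h' e)))
          omega
        · simp only [asOrd, Sum.elim_inl, Sum.elim_inr] at hle
          have := a.2.1
          omega
      · rcases i₀ with a₀ | b₀ <;> simp [asOrd]
    · rw [hsecond b, WithZero.exp_lt_exp]
      split_ifs with h
      · rcases i₀ with a₀ | b₀
        · have := a₀.2.1
          simp only [asOrd, Sum.elim_inl]
          omega
        · simp only [asPt, Sum.elim_inr] at h
          rcases h with h | h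
          · exact absurd (congrArg Sum.inr (Subtype.ext (Subtype.ext h))) hne
          · exact absurd h b₀.2
      · rcases i₀ with a₀ | b₀ <;> simp [asOrd]
  have hval : ∀ j, c j ≠ 0 → p.1 (c j • asFam B d j) = p.1 (asFam B d j) := fun j hj => by
    rw [Algebra.smul_def, map_mul, val_algebraMap p hj, one_mul]
  have := Valuation.map_sum_eq_of_lt (v := p.1) (f := fun j => c j • asFam B d j)
    (Finset.mem_univ i₀) fun j hj => by
      simp only [Finset.mem_sdiff, Finset.mem_singleton] at hj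
      by_cases h : c j = 0
      · rw [h, zero_smul, map_zero, hval i₀ hi₀, htop]
        exact WithZero.exp_pos
      · rw [hval j h, hval i₀ hi₀, htop]
        exact hlt j h hj.2
  rw [hc, map_zero, hval i₀ hi₀, htop] at this
  exact WithZero.exp_ne_zero this.symm

end

section

variable {k K : Type*} [Field k] [Field K] [Algebra k K] [Algebra (RatFunc k) K]
  [IsScalarTower k (RatFunc k) K] [Algebra.IsSeparable (RatFunc k) K]
  (hK : IsFunctionField k K) (hdeg : Module.finrank (RatFunc k) K = 2) (h2 : ringChar k = 2)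
  {y : K} (hy : y ∉ Set.range (algebraMap (RatFunc k) K)) {f : RatFunc k}
  (heq : y ^ 2 + y = algebraMap (RatFunc k) K f)
  {B : Finset k} (h0 : (0 : k) ∈ B) {d : k → ℕ} (hd : ∀ α ∈ B, Odd (d α))
  (hpole : ∀ (p : Place k (RatFunc k)) (α : k), α ∈ B →
    p.1 ((RatFunc.X : RatFunc k) - RatFunc.C α) < 1 → p.ord f = -(d α : ℤ))
  (hint : ∀ p : Place k (RatFunc k),
    (∀ α ∈ B, 1 ≤ p.1 ((RatFunc.X : RatFunc k) - RatFunc.C α)) → p.1 f ≤ 1)
  (F : Place k K → Type*) [∀ P, Field (F P)] [∀ P, Algebra k (F P)]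
  [∀ P, FiniteDimensional k (F P)]
  (φ : ∀ P, K →ₐ[k] LaurentSeries (F P)) (hφ : ∀ P, LocRes.IsExpansionAt P.1 (φ P))

include hK hdeg h2 hy heq h0 hd hpole hint hφ

theorem as_basis :
    (∀ i P, LocRes.vDiff (φ P) (algebraMap (RatFunc k) K (asFam B d i))
        (algebraMap (RatFunc k) K RatFunc.X) ≤ 1) ∧
    LinearIndependent k (fun i => algebraMap (RatFunc k) K (asFam B d i)) ∧
    ∀ z : K, (∀ P, LocRes.vDiff (φ P) z (algebraMap (RatFunc k) K RatFunc.X) ≤ 1) →
      z ∈ Submodule.span k (Set.range fun i => algebraMap (RatFunc k) K (asFam B d i)) := by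
  classical
  have hR := Groth.Funfld2.Rat.isFF (k := k)
  have hF := IsFF.of_isFunctionField hK
  have hgeo := isGeometric (k := k) (K := K) hK
  set q : k[X] := ∏ α ∈ B, (Polynomial.X - Polynomial.C α) ^ ((d α + 1) / 2) with hq_def
  have hq0 : q ≠ 0 := Finset.prod_ne_zero_iff.2 fun α _ => pow_ne_zero _ (Polynomial.X_sub_C_ne_zero α)
  have hqdeg : q.natDegree = ∑ α ∈ B, (d α + 1) / 2 := by
    rw [hq_def, Polynomial.natDegree_prod _ _ fun α _ => pow_ne_zero _ (Polynomial.X_sub_C_ne_zero α)]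
    simp
  have hordpow : ∀ (p : Place k (RatFunc k)) (α : k) (n : ℕ),
      p.1 ((RatFunc.X : RatFunc k) - RatFunc.C α) ^ n =
        p.1 (algebraMap k[X] (RatFunc k) ((Polynomial.X - Polynomial.C α) ^ n)) := fun p α n => by
    rw [map_pow, map_pow, ← X_sub_C_eq]
  have hfinp : ∀ (p : Place k (RatFunc k)) (α : k), α ∈ B →
      p.1 ((RatFunc.X : RatFunc k) - RatFunc.C α) < 1 →
      p.1 (RatFunc.X : RatFunc k) ≤ 1 ∧
        p.1 (algebraMap k[X] (RatFunc k) q) = exp (-(((d α + 1) / 2 : ℕ) : ℤ)) := by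
    intro p α hα hlt
    have hX : p.1 (RatFunc.X : RatFunc k) ≤ 1 := by
      rw [show (RatFunc.X : RatFunc k) = (RatFunc.X - RatFunc.C α) + algebraMap k (RatFunc k) α by
        rw [algebraMap_ratC]; ring]
      exact Valuation.map_add_le _ hlt.le (p.2.1 α)
    have hne : (RatFunc.X : RatFunc k) - RatFunc.C α ≠ 0 := by
      rw [X_sub_C_eq]; exact RatFunc.algebraMap_ne_zero (Polynomial.X_sub_C_ne_zero α)
    have h1 : p.1 ((RatFunc.X : RatFunc k) - RatFunc.C α) = exp (-1 : ℤ) := by
      have h2 : p.ord ((RatFunc.X : RatFunc k) - RatFunc.C α) ≤ 1 := by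
        rw [X_sub_C_eq]
        exact Groth.Funfld2.Rat.ord_squarefree_le_one ((val_le_one_iff p _).1 hX)
          (Polynomial.irreducible_X_sub_C α).squarefree
      rw [val_eq_exp_neg_ord p hne, le_antisymm h2 ((val_lt_one_iff p hne).1 hlt)]
    refine ⟨hX, ?_⟩
    rw [hq_def, map_prod, map_prod, Finset.prod_eq_single_of_mem α hα fun β _ hne' => ?_]
    · rw [← hordpow, h1, ← WithZero.exp_nsmul, nsmul_eq_mul]
      congr 1; ring
    · rw [← hordpow]
      have := sep_of_val_lt p (RatFunc.X : RatFunc k) (a := β) (b := α) (Ne.symm hne') (by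
        rwa [algebraMap_ratC])
      rw [algebraMap_ratC] at this
      rw [this, one_pow]
  have hodd : ∀ p : Place k (RatFunc k), 1 < p.1 f → Odd (p.ord f) := by
    intro p hp
    obtain ⟨α, hα, hlt⟩ : ∃ α ∈ B, p.1 ((RatFunc.X : RatFunc k) - RatFunc.C α) < 1 := by
      by_contra! hall
      exact not_lt.2 (hint p hall) hp
    rw [hpole p α hα hlt]
    exact ((Int.odd_coe_nat _).2 (hd α hα)).neg
  have hq : ∀ p : Place k (RatFunc k), p.1 RatFunc.X ≤ 1 →
      p.ord (algebraMap k[X] (RatFunc k) q) = if 1 < p.1 f then (1 - p.ord f) / 2 else 0 := by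
    intro p hX
    by_cases hex : ∃ α ∈ B, p.1 ((RatFunc.X : RatFunc k) - RatFunc.C α) < 1
    · obtain ⟨α, hα, hlt⟩ := hex
      rw [ord_eq_of_val_eq p (hfinp p α hα hlt).2, if_pos ((one_lt_val_iff p f).2 (by
        rw [hpole p α hα hlt]; obtain ⟨m, hm⟩ := hd α hα; omega)), hpole p α hα hlt]
      push_cast
      omega
    · push Not at hex
      rw [if_neg (not_lt.2 (hint p hex))]
      refine (val_eq_one_iff p (RatFunc.algebraMap_ne_zero hq0)).1 ?_
      rw [hq_def, map_prod, map_prod]
      refine Finset.prod_eq_one fun α hα => ?_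
      rw [← hordpow, le_antisymm ?_ (hex α hα), one_pow]
      exact Valuation.map_sub_le _ hX (by
        have := p.2.1 α
        rwa [algebraMap_ratC] at this)
  obtain ⟨hgen, C, hcan, hCP, hC⟩ := canonical_as hK hdeg h2 hy heq hodd hq0 hq F φ hφ
  have hg : genus k K + 1 = q.natDegree := by
    obtain ⟨pinf, hpinf⟩ := exists_inf (k := k)
    have := hgen pinf hpinf
    rw [if_neg (not_lt.2 (hint pinf fun α _ => ?_))] at this
    · omega
    · have h1 := (one_lt_val_iff pinf _).2 hpinf
      rw [Valuation.map_sub_eq_of_lt_left _ ?_]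
      · exact h1.le
      · have := pinf.2.1 α
        rw [algebraMap_ratC] at this
        exact this.trans_lt h1
  have hw : algebraMap (RatFunc k) K (algebraMap k[X] (RatFunc k) q) ≠ 0 := by
    rw [map_ne_zero]; exact RatFunc.algebraMap_ne_zero hq0
  obtain ⟨-, hin, -⟩ := L_canonical_eq hK hcan hw hC
  have hiff : ∀ z : K, (∀ P, LocRes.vDiff (φ P) z (algebraMap (RatFunc k) K RatFunc.X) ≤ 1) ↔
      z ∈ L C := by
    intro z
    have := Groth.Funfld2.Residue.forall_vDiff_le_iff hK φ hφ hgeo (D_x_ne_zero (k := k) (K := K))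
      hCP 0 z
    simpa using this
  have hdiv : ∀ (c : k) (D : k[X]), D ∣ q → 2 ≤ D.natDegree →
      algebraMap (RatFunc k) K (RatFunc.C c / algebraMap k[X] (RatFunc k) D) ∈ L C := by
    intro c D ⟨r, hr⟩ hD
    have hr0 : r ≠ 0 := fun e => hq0 (by rw [hr, e, mul_zero])
    have hD0 : D ≠ 0 := fun e => hq0 (by rw [hr, e, zero_mul])
    have hlt : (Polynomial.C c * r).degree < (genus k K : WithBot ℕ) := by
      by_cases hz : Polynomial.C c * r = 0
      · rw [hz, Polynomial.degree_zero]; exact WithBot.bot_lt_coe _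
      rw [Polynomial.degree_eq_natDegree hz]
      have h1 : q.natDegree = D.natDegree + r.natDegree := by
        rw [hr, Polynomial.natDegree_mul hD0 hr0]
      have h2' := Polynomial.natDegree_C_mul_le c r
      exact_mod_cast (by omega : (Polynomial.C c * r).natDegree < genus k K)
    have := hin _ hlt
    rw [← map_div₀, map_mul, RatFunc.algebraMap_C, hr, map_mul,
      mul_div_mul_right _ _ (RatFunc.algebraMap_ne_zero hr0)] at this
    exact this
  have hmem : ∀ i, algebraMap (RatFunc k) K (asFam B d i) ∈ L C := by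
    rintro (a | b)
    · have := hdiv 1 ((Polynomial.X - Polynomial.C (a.1.1 : k)) ^ (a.1.2 + 1))
        ((pow_dvd_pow _ (by have := a.2; omega)).trans (Finset.dvd_prod_of_mem _ a.1.1.2))
        (by rw [Polynomial.natDegree_pow, Polynomial.natDegree_X_sub_C]; have := a.2.1; omega)
      rw [map_one, one_div, map_pow, ← X_sub_C_eq, ← inv_pow] at this
      exact this
    · have := hdiv (b.1 : k) ((Polynomial.X - Polynomial.C 0) * (Polynomial.X - Polynomial.C (b.1 : k)))
        (IsCoprime.mul_dvd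
          (Polynomial.isCoprime_X_sub_C_of_isUnit_sub (isUnit_iff_ne_zero.2 (by simpa using b.2)))
          ((dvd_pow_self _ (by obtain ⟨m, hm⟩ := hd 0 h0; omega)).trans (Finset.dvd_prod_of_mem _ h0))
          ((dvd_pow_self _ (by obtain ⟨m, hm⟩ := hd _ b.1.2; omega)).trans
            (Finset.dvd_prod_of_mem _ b.1.2)))
        (by rw [Polynomial.natDegree_mul (Polynomial.X_sub_C_ne_zero _) (Polynomial.X_sub_C_ne_zero _),
          Polynomial.natDegree_X_sub_C, Polynomial.natDegree_X_sub_C])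
      rw [map_mul, ← X_sub_C_eq, ← X_sub_C_eq, map_zero, sub_zero] at this
      exact this
  have hli : LinearIndependent k fun i => algebraMap (RatFunc k) K (asFam B d i) :=
    (linearIndependent_asFam B d).map' ((IsScalarTower.toAlgHom k (RatFunc k) K).toLinearMap)
      (LinearMap.ker_eq_bot.2 (algebraMap (RatFunc k) K).injective)
  refine ⟨fun i => (hiff _).2 (hmem i), hli, fun z hz => ?_⟩
  have := hF.finiteDimensional_L C
  have hsp : Submodule.span k (Set.range fun i => algebraMap (RatFunc k) K (asFam B d i)) = L C := by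
    refine Submodule.eq_of_le_of_finrank_eq
      (Submodule.span_le.2 (by rintro _ ⟨i, rfl⟩; exact hmem i)) ?_
    rw [finrank_span_eq_card hli]
    have h1 := card_asIdx B d h0 hd
    have h3 : (ell C : ℕ) = genus k K := ell_canonical hK hcan
    change _ = ell C
    omega
  exact hsp.symm ▸ (hiff z).1 hz

end

end Groth.Funfld2.Quad
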