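import Groth.Agent.Funfld2.Quad.Diff

/-! Regular differentials of `y² = f(x)`. -/

open FunFld Groth.FunFld1
open scoped LaurentSeries Polynomial

namespace Groth.Funfld2.Quad

section

variable {k K : Type*} [Field k] [Field K] [Algebra k K] [Algebra (RatFunc k) K]
  [IsScalarTower k (RatFunc k) K]

theorem deg_zeroDiv_inv_x (hdeg : Module.finrank (RatFunc k) K = 2) :
    (zeroDiv k (algebraMap (RatFunc k) K RatFunc.X)⁻¹).deg = 2 := by
  have hF := Groth.Funfld2.Rat.isFF (k := k)
  have := finite hdeg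
  rw [(hF.ext (K' := K)).deg_poleDiv_eq (transcendental_x (k := k) (K := K)),
    (hF.finiteDimensional_ext (K' := K) Groth.Funfld2.Rat.transcendental_X).2, hdeg,
    RatFunc.adjoin_X, IntermediateField.finrank_top]
  norm_num

variable (hK : IsFunctionField k K) (hdeg : Module.finrank (RatFunc k) K = 2)
  (h2 : ringChar k ≠ 2) {y : K} {f : k[X]} (hf : Squarefree f) (hd : 1 ≤ f.natDegree)
  (heq : y ^ 2 = algebraMap (RatFunc k) K (algebraMap k[X] (RatFunc k) f))
  (F : Place k K → Type*) [∀ P, Field (F P)] [∀ P, Algebra k (F P)]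
  [∀ P, FiniteDimensional k (F P)]
  (φ : ∀ P, K →ₐ[k] LaurentSeries (F P)) (hφ : ∀ P, LocRes.IsExpansionAt P.1 (φ P))

include hK hdeg h2 hf hd heq hφ

theorem ordDiff_kummer (P : Place k K) :
    LocRes.ordDiff (φ P) 1 (algebraMap (RatFunc k) K RatFunc.X) = P.ord y +
      ((((f.natDegree - 1) / 2 : ℕ) : ℤ) - 1) *
        zeroDiv k (algebraMap (RatFunc k) K RatFunc.X)⁻¹ P := by
  have hF := Groth.Funfld2.Rat.isFF (k := k)
  have := finite hdeg
  have h2F := two_ne_zero_ratFunc h2
  have := isSeparable_of_two_ne_zero hdeg h2F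
  have hyr := not_mem_range_of_squarefree (K := K) hf hd heq
  have hy0 : y ≠ 0 := fun e => hyr ⟨0, by rw [e, map_zero]⟩
  obtain ⟨p, hp⟩ := hF.exists_isOver P
  have he := isOverWith_ramIdx hp
  set e := ramIdx P p with he_def
  have hord : 2 * P.ord y = e * p.ord (algebraMap k[X] (RatFunc k) f) := by
    rw [← overWith_ord he, ← heq, sq, ord_mul P hy0 hy0]; ring
  have he12 : e = 1 ∨ e = 2 := by
    rcases ram_cases hF hdeg hp with h | h
    · exact Or.inl (isOverWith_unique he h)
    · exact Or.inr (isOverWith_unique he h)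
  have hne : (e : F P) ≠ 0 := by
    rcases he12 with h | h <;> rw [h]
    · simp
    · rw [← map_natCast (algebraMap k (F P)), map_ne_zero]; exact Ring.two_ne_zero h2
  obtain ⟨hfin, hinf⟩ := ordDiff_x_tame hK (hφ P) he hne
  have hpar : Even (p.ord (algebraMap k[X] (RatFunc k) f)) → e = 1 := fun hev =>
    isOverWith_unique he (kummer_unram hF hdeg h2F hyr heq hev hp)
  rw [(hF.ext (K' := K)).zeroDiv_apply, ord_inv, overWith_ord he]
  rcases le_or_gt 0 (p.ord (RatFunc.X : RatFunc k)) with hX | hX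
  · have h1 := Groth.Funfld2.Rat.ord_squarefree_le_one hX hf
    have h0 := (val_le_one_iff p _).1 (Groth.Funfld2.Rat.val_poly_le_one hX f)
    rw [max_eq_right (by rw [neg_nonpos]; positivity), mul_zero, add_zero, hfin hX]
    rcases (by omega : p.ord (algebraMap k[X] (RatFunc k) f) = 0 ∨
      p.ord (algebraMap k[X] (RatFunc k) f) = 1) with h | h
    · have := hpar (h ▸ ⟨0, rfl⟩)
      rw [this, h] at hord
      rw [this]
      omega
    · rw [h, mul_one] at hord
      rcases he12 with e1 | e1 <;> rw [e1] at hord ⊢ <;> omega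
  · obtain ⟨hX1, hfn⟩ := Groth.Funfld2.Rat.ord_poly_inf hX
    rw [hfn f hf.ne_zero] at hord hpar
    rw [hinf hX, hX1, max_eq_left (by
      rcases he12 with e1 | e1 <;> rw [e1] <;> norm_num)]
    rcases Nat.even_or_odd f.natDegree with ⟨m, hm⟩ | ⟨m, hm⟩
    · have := hpar ⟨-(m : ℤ), by omega⟩
      rw [this] at hord ⊢
      omega
    · rcases he12 with e1 | e1 <;> rw [e1] at hord ⊢ <;> omega

theorem genus_and_canonical :
    genus k K = (f.natDegree - 1) / 2 ∧
    ∃ C : Divisor k K, IsCanonical k K C ∧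
      ∀ P, C P = LocRes.ordDiff (φ P) 1 (algebraMap (RatFunc k) K RatFunc.X) := by
  classical
  have := isSeparable_of_two_ne_zero hdeg (two_ne_zero_ratFunc h2)
  have hyr := not_mem_range_of_squarefree (K := K) hf hd heq
  have hy0 : y ≠ 0 := fun e => hyr ⟨0, by rw [e, map_zero]⟩
  have hF := IsFF.of_isFunctionField hK
  have hg := isGeometric (k := k) (K := K) hK
  obtain ⟨-, C, hC, hCP⟩ := Residue.exists_canonical hK φ hφ hg (u := 1)
    one_ne_zero (D_x_ne_zero (k := k) (K := K))
  have hcan : IsCanonical k K C :=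
    ⟨_, Residue.resForm_ne_zero hK φ hφ hg one_ne_zero (D_x_ne_zero (k := k) (K := K)), hC⟩
  have hCeq : C = div k y + ((((f.natDegree - 1) / 2 : ℕ) : ℤ) - 1) •
      zeroDiv k (algebraMap (RatFunc k) K RatFunc.X)⁻¹ := by
    ext P
    rw [hCP, ordDiff_kummer hK hdeg h2 hf hd heq F φ hφ P, Finsupp.add_apply, Finsupp.smul_apply,
      hF.div_apply, smul_eq_mul]
  have hsmul : ∀ (n : ℤ) (D : Divisor k K), (n • D).deg = n * D.deg := by
    intro n D
    induction D using Finsupp.induction_linear with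
    | zero => simp [deg_zero]
    | add D E hD hE => rw [smul_add, deg_add, hD, hE, deg_add]; ring
    | single Q m => rw [Finsupp.smul_single, deg_single, deg_single, smul_eq_mul]; ring
  have hd2 := deg_canonical hK hcan
  rw [hCeq, deg_add, hsmul, hF.deg_div, deg_zeroDiv_inv_x hdeg] at hd2
  exact ⟨by omega, C, hcan, hCP⟩

end

end Groth.Funfld2.Quad
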