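import Groth.Agent.Funfld2.Quad.Diff
import Groth.Agent.Funfld2.Quad.Hyperelliptic
import Mathlib.FieldTheory.Perfect

/-! The divisor of `dx` for `y² + y = f(x)` in characteristic two. -/

open FunFld Groth.FunFld1
open WithZero (exp)
open scoped LaurentSeries WithZero Polynomial

namespace Groth.Funfld2.Quad

section

variable {k : Type*} [Field k]

theorem inf_unique {p p' : Place k (RatFunc k)} (h : p.ord (RatFunc.X : RatFunc k) < 0)
    (h' : p'.ord (RatFunc.X : RatFunc k) < 0) : p = p' := by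
  refine Place.eq_of_forall_le_one p p' fun z hz => ?_
  by_cases hz0 : z = 0
  · simp [hz0]
  have e : ∀ (r : Place k (RatFunc k)), r.ord (RatFunc.X : RatFunc k) < 0 →
      r.1 z = exp ((z.num.natDegree : ℤ) - z.denom.natDegree) := by
    intro r hr
    have hord := (Groth.Funfld2.Rat.ord_poly_inf hr).2
    conv_lhs => rw [← RatFunc.num_div_denom z]
    rw [map_div₀, val_eq_exp_neg_ord r (RatFunc.algebraMap_ne_zero (RatFunc.num_ne_zero hz0)),
      val_eq_exp_neg_ord r (RatFunc.algebraMap_ne_zero z.denom_ne_zero),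
      hord _ (RatFunc.num_ne_zero hz0), hord _ z.denom_ne_zero, ← WithZero.exp_sub]
    congr 1; ring
  rw [e p' h', ← e p h]
  exact hz

theorem exists_inf : ∃ p : Place k (RatFunc k), p.ord (RatFunc.X : RatFunc k) < 0 := by
  have hF := Groth.Funfld2.Rat.isFF (k := k)
  by_contra! hall
  have hd := hF.deg_poleDiv_eq (x := (RatFunc.X : RatFunc k)) Groth.Funfld2.Rat.transcendental_X
  have h0 : zeroDiv k (RatFunc.X : RatFunc k)⁻¹ = 0 := by
    ext p
    rw [hF.zeroDiv_apply, ord_inv, Finsupp.zero_apply]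
    have := hall p
    omega
  have h1 : Module.finrank (IntermediateField.adjoin k
      ({(RatFunc.X : RatFunc k)} : Set (RatFunc k))) (RatFunc k) = 1 := by
    rw [RatFunc.adjoin_X]; exact IntermediateField.finrank_top
  rw [h0, h1, Groth.FunFld1.deg_zero] at hd
  norm_num at hd

end

section

variable {k K F : Type*} [Field k] [Field K] [Algebra k K] [Algebra (RatFunc k) K]
  [IsScalarTower k (RatFunc k) K] [Algebra.IsSeparable (RatFunc k) K]
  [Field F] [Algebra k F] [FiniteDimensional k F]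
  (hK : IsFunctionField k K) (hdeg : Module.finrank (RatFunc k) K = 2) (h2 : ringChar k = 2)
  {y : K} (hy : y ∉ Set.range (algebraMap (RatFunc k) K)) {f : RatFunc k}
  (heq : y ^ 2 + y = algebraMap (RatFunc k) K f)
  {P : Place k K} {ψ : K →ₐ[k] F⸨X⸩} (hψ : LocRes.IsExpansionAt P.1 ψ)
  {p : Place k (RatFunc k)} (hp : IsOver P p)

include hK hdeg h2 hy heq hψ hp

/-- `ord_P(dx)` at a pole of `f` of odd order, and elsewhere. -/
theorem ordDiff_as (hodd : 1 < p.1 f → Odd (p.ord f)) :
    ∃ (e : ℕ) (δ : ℤ), IsOverWith P p e ∧ (0 ≤ p.ord (RatFunc.X : RatFunc k) → δ = 0) ∧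
      (p.ord (RatFunc.X : RatFunc k) < 0 → δ = 2) ∧
      LocRes.ordDiff ψ 1 (algebraMap (RatFunc k) K RatFunc.X) =
        e * ((if 1 < p.1 f then (1 - p.ord f) / 2 else 0) - δ) := by
  have hF := Groth.Funfld2.Rat.isFF (k := k)
  have := finite hdeg
  have h2F := two_eq_zero_ratFunc (k := k) h2
  have h2K : (2 : K) = 0 := by rw [← map_ofNat (algebraMap (RatFunc k) K) 2, h2F, map_zero]
  have h2k : (2 : k) = 0 := by
    have := ringChar.charP k
    rw [h2] at this
    exact CharTwo.two_eq_zero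
  split_ifs with hpole
  · -- wild
    obtain ⟨m, hm⟩ := hodd hpole
    have hy0 : y ≠ 0 := fun h => hy ⟨0, by rw [h, map_zero]⟩
    have hgt : 1 < P.1 (algebraMap (RatFunc k) K f) :=
      not_le.1 fun h => not_le.2 hpole ((over_le_one_iff hp f).1 h)
    have hyv : 1 < P.1 y := by
      by_contra hle
      rw [not_lt] at hle
      rw [← heq] at hgt
      exact absurd hgt (not_lt.2
        (Valuation.map_add_le _ (by rw [map_pow]; exact pow_le_one₀ zero_le hle) hle))
    have hord : P.ord (algebraMap (RatFunc k) K f) = 2 * P.ord y := by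
      rw [← heq, ord_eq_of_val_eq P (n := -(2 * P.ord y)) (by
        rw [Valuation.map_add_eq_of_lt_left _ (by rw [map_pow]; exact lt_self_pow₀ hyv one_lt_two),
          map_pow, val_eq_exp_neg_ord P hy0, ← WithZero.exp_nsmul, nsmul_eq_mul]
        congr 1; ring), neg_neg]
    have he := two_of_odd hF hdeg hp hord (hodd hpole)
    obtain ⟨δ, h0, h1, hG⟩ := ordDiff_x_eq hK hψ he
    refine ⟨2, δ, he, h0, h1, ?_⟩
    rw [overWith_ord he] at hord
    push_cast at hord
    have hoy : P.ord y = 2 * m + 1 := by omega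
    obtain ⟨hyne, hyd⟩ := ordDiff_of_ord ψ hψ hy0 (by
      rw [hoy]
      push_cast
      rw [← map_ofNat (algebraMap k F) 2, h2k, map_zero, zero_mul, zero_add]
      exact one_ne_zero)
    have hneg : p.ord f < 0 := (one_lt_val_iff p f).1 hpole
    obtain ⟨n, hn⟩ := Int.eq_ofNat_of_zero_le (show 0 ≤ -m by omega)
    obtain ⟨g, hg0, hg⟩ := exists_uniformizer p
    have hf0 : f ≠ 0 := fun h => by rw [h, ord_zero] at hneg; exact lt_irrefl _ hneg
    set G := g ^ (2 * n) * f with hG'
    have hvG : p.1 G = exp (-1 : ℤ) := by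
      rw [hG', map_mul, map_pow, hg, val_eq_exp_neg_ord p hf0, ← WithZero.exp_nsmul,
        ← WithZero.exp_add, nsmul_eq_mul]
      congr 1; push_cast; omega
    obtain ⟨hne, hx⟩ := hG G hvG
    have hD : algebraMap (RatFunc k) K (g ^ (2 * n)) • KaehlerDifferential.D k K y =
        KaehlerDifferential.D k K (algebraMap (RatFunc k) K G) := by
      rw [hG', map_mul, Derivation.leibniz, ← heq, map_add, Derivation.leibniz_pow,
        map_pow (algebraMap (RatFunc k) K), Derivation.leibniz_pow (D := KaehlerDifferential.D k K)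
          (algebraMap (RatFunc k) K g)]
      simp only [← Nat.cast_smul_eq_nsmul K, Nat.cast_mul, Nat.cast_ofNat, h2K, zero_mul,
        zero_smul, smul_zero, add_zero, zero_add]
    obtain ⟨-, -, hGd⟩ := Different.ordDiff_one_eq_of_smul ψ hψ hD hne
    rw [hx, hGd, hyd, overWith_ord he, hoy, ord_eq_of_val_eq p (x := g ^ (2 * n))
      (n := -(2 * n : ℤ)) (by
        rw [map_pow, hg, ← WithZero.exp_nsmul, nsmul_eq_mul]
        congr 1; push_cast; ring)]
    push_cast
    omega
  · have he := artinSchreier_unram hF hdeg h2F hy heq ((val_le_one_iff p f).1 (not_lt.1 hpole)) hp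
    obtain ⟨δ, h0, h1, -⟩ := ordDiff_x_eq hK hψ he
    refine ⟨1, δ, he, h0, h1, ?_⟩
    obtain ⟨hfin, hinf⟩ := ordDiff_x_tame hK hψ he (by simp)
    rcases le_or_gt 0 (p.ord (RatFunc.X : RatFunc k)) with hX | hX
    · rw [hfin hX, h0 hX]; norm_num
    · rw [hinf hX, h1 hX]; norm_num

end

section

variable {k K : Type*} [Field k] [Field K] [Algebra k K] [Algebra (RatFunc k) K]
  [IsScalarTower k (RatFunc k) K] [Algebra.IsSeparable (RatFunc k) K]
  (hK : IsFunctionField k K) (hdeg : Module.finrank (RatFunc k) K = 2) (h2 : ringChar k = 2)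
  {y : K} (hy : y ∉ Set.range (algebraMap (RatFunc k) K)) {f : RatFunc k}
  (heq : y ^ 2 + y = algebraMap (RatFunc k) K f)
  (hodd : ∀ p : Place k (RatFunc k), 1 < p.1 f → Odd (p.ord f))
  {q : k[X]} (hq0 : q ≠ 0)
  (hq : ∀ p : Place k (RatFunc k), p.1 RatFunc.X ≤ 1 →
    p.ord (algebraMap k[X] (RatFunc k) q) = if 1 < p.1 f then (1 - p.ord f) / 2 else 0)
  (F : Place k K → Type*) [∀ P, Field (F P)] [∀ P, Algebra k (F P)]
  [∀ P, FiniteDimensional k (F P)]
  (φ : ∀ P, K →ₐ[k] LaurentSeries (F P)) (hφ : ∀ P, LocRes.IsExpansionAt P.1 (φ P))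

include hK hdeg h2 hy heq hodd hq0 hq hφ

theorem canonical_as :
    (∀ p : Place k (RatFunc k), p.ord (RatFunc.X : RatFunc k) < 0 → (genus k K : ℤ) =
      q.natDegree + (if 1 < p.1 f then (1 - p.ord f) / 2 else 0) - 1) ∧
    ∃ C : Divisor k K, IsCanonical k K C ∧
      (∀ P, C P = LocRes.ordDiff (φ P) 1 (algebraMap (RatFunc k) K RatFunc.X)) ∧
      C = div k (algebraMap (RatFunc k) K (algebraMap k[X] (RatFunc k) q)) +
        ((genus k K : ℤ) - 1) • zeroDiv k (algebraMap (RatFunc k) K RatFunc.X)⁻¹ := by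
  classical
  have hR := Groth.Funfld2.Rat.isFF (k := k)
  have := finite hdeg
  have hF := IsFF.of_isFunctionField hK
  have hg := isGeometric (k := k) (K := K) hK
  obtain ⟨-, C, hC, hCP⟩ := Residue.exists_canonical hK φ hφ hg (u := 1)
    one_ne_zero (D_x_ne_zero (k := k) (K := K))
  have hcan : IsCanonical k K C :=
    ⟨_, Residue.resForm_ne_zero hK φ hφ hg one_ne_zero (D_x_ne_zero (k := k) (K := K)), hC⟩
  obtain ⟨pinf, hpinf⟩ := exists_inf (k := k)
  set G : ℤ := q.natDegree + (if 1 < pinf.1 f then (1 - pinf.ord f) / 2 else 0) - 1 with hG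
  have hCeq : C = div k (algebraMap (RatFunc k) K (algebraMap k[X] (RatFunc k) q)) +
      (G - 1) • zeroDiv k (algebraMap (RatFunc k) K RatFunc.X)⁻¹ := by
    ext P
    obtain ⟨p, hp⟩ := hR.exists_isOver P
    obtain ⟨e, δ, he, h0, h1, hd⟩ := ordDiff_as hK hdeg h2 hy heq (hφ P) hp (hodd p)
    rw [hCP, hd, Finsupp.add_apply, Finsupp.smul_apply, hF.div_apply, smul_eq_mul,
      hF.zeroDiv_apply, ord_inv, overWith_ord he, overWith_ord he]
    rcases le_or_gt 0 (p.ord (RatFunc.X : RatFunc k)) with hX | hX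
    · rw [max_eq_right (by rw [neg_nonpos]; positivity), mul_zero, add_zero, h0 hX,
        hq p ((val_le_one_iff p _).2 hX), sub_zero]
    · obtain ⟨hX1, hqn⟩ := Groth.Funfld2.Rat.ord_poly_inf hX
      rw [max_eq_left (by rw [hX1]; simp), hX1, hqn q hq0, h1 hX, hG, inf_unique hX hpinf]
      ring
  have hsmul : ∀ (n : ℤ) (D : Divisor k K), (n • D).deg = n * D.deg := by
    intro n D
    induction D using Finsupp.induction_linear with
    | zero => simp [deg_zero]
    | add D E hD hE => rw [smul_add, deg_add, hD, hE, deg_add]; ring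
    | single Q m => rw [Finsupp.smul_single, deg_single, deg_single, smul_eq_mul]; ring
  have hd2 := deg_canonical hK hcan
  rw [hCeq, deg_add, hsmul, hF.deg_div, deg_zeroDiv_inv_x hdeg] at hd2
  refine ⟨fun p hp => ?_, C, hcan, hCP, ?_⟩
  · rw [inf_unique hp hpinf, ← hG]
    omega
  rw [hCeq, show (genus k K : ℤ) = G by omega]

end

section

variable {k K : Type*} [Field k] [Field K] [Algebra k K] [Algebra (RatFunc k) K]
  [IsScalarTower k (RatFunc k) K]

/-- Canonical space when the canonical divisor is `div w + (g - 1)(x)_∞`. -/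
theorem L_canonical_eq (hK : IsFunctionField k K) {C : Divisor k K} (hcan : IsCanonical k K C)
    {w : K} (hw : w ≠ 0)
    (hC : C = div k w + ((genus k K : ℤ) - 1) •
      zeroDiv k (algebraMap (RatFunc k) K RatFunc.X)⁻¹) :
    (∀ i < genus k K, algebraMap (RatFunc k) K RatFunc.X ^ i / w ∈ L C) ∧
      (∀ a : k[X], a.degree < (genus k K : WithBot ℕ) →
        algebraMap (RatFunc k) K (algebraMap k[X] (RatFunc k) a) / w ∈ L C) ∧
      ∀ z ∈ L C, ∃ a : k[X], a.degree < (genus k K : WithBot ℕ) ∧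
        z = algebraMap (RatFunc k) K (algebraMap k[X] (RatFunc k) a) / w := by
  classical
  have hF := IsFF.of_isFunctionField hK
  set g := genus k K with hg_def
  set xK := algebraMap (RatFunc k) K RatFunc.X with hxK
  have hx0 : xK ≠ 0 := by rw [hxK, map_ne_zero]; exact RatFunc.X_ne_zero
  have hmem : ∀ i < g, xK ^ i / w ∈ L C := by
    intro i hi P
    have h0 : xK ^ i / w ≠ 0 := div_ne_zero (pow_ne_zero _ hx0) hw
    rw [val_eq_exp_neg_ord P h0, WithZero.exp_le_exp, hC, Finsupp.add_apply, Finsupp.smul_apply,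
      hF.div_apply, smul_eq_mul, hF.zeroDiv_apply, ord_inv, div_eq_mul_inv,
      ord_mul P (pow_ne_zero _ hx0) (inv_ne_zero hw), ord_inv,
      ord_eq_of_val_eq P (x := xK ^ i) (n := -((i : ℤ) * P.ord xK)) (by
        rw [map_pow, val_eq_exp_neg_ord P hx0, ← WithZero.exp_nsmul, nsmul_eq_mul]
        congr 1; ring)]
    rcases le_or_gt 0 (P.ord xK) with h | h
    · rw [max_eq_right (by omega)]
      have := mul_nonneg (Int.natCast_nonneg i) h
      omega
    · rw [max_eq_left (by omega)]
      have : ((g : ℤ) - 1 - i) * P.ord xK ≤ 0 :=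
        mul_nonpos_of_nonneg_of_nonpos (by omega) h.le
      rw [sub_mul, sub_mul, one_mul] at this
      rw [sub_mul, one_mul, mul_neg]
      omega
  suffices h : (∀ a : k[X], a.degree < (g : WithBot ℕ) →
      algebraMap (RatFunc k) K (algebraMap k[X] (RatFunc k) a) / w ∈ L C) ∧
      ∀ z ∈ L C, ∃ a : k[X], a.degree < (g : WithBot ℕ) ∧
        z = algebraMap (RatFunc k) K (algebraMap k[X] (RatFunc k) a) / w from ⟨hmem, h⟩
  let ι : k[X] →ₗ[k] K :=
    (LinearMap.mulRight k w⁻¹).comp (Polynomial.aeval (R := k) xK).toLinearMap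
  let W := (Polynomial.degreeLT k g).map ι
  have hinj : Function.Injective ι := by
    intro a b hab
    refine transcendental_iff_injective.1 (transcendental_x (k := k) (K := K)) ?_
    exact mul_right_cancel₀ (inv_ne_zero hw) hab
  have hW : W ≤ L C := by
    refine Submodule.map_le_iff_le_comap.2 fun a ha => ?_
    rw [Polynomial.degreeLT_eq_span_X_pow] at ha
    refine (Submodule.span_le.2 ?_) ha
    intro q hq
    simp only [Finset.coe_image, Finset.coe_range, Set.mem_image, Set.mem_Iio] at hq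
    obtain ⟨i, hi, rfl⟩ := hq
    show ι (Polynomial.X ^ i) ∈ L C
    simpa [ι, div_eq_mul_inv] using hmem i hi
  have := hF.finiteDimensional_L C
  have heqW : W = L C := Submodule.eq_of_le_of_finrank_eq hW (by
    rw [(Submodule.equivMapOfInjective ι hinj _).finrank_eq.symm,
      (Polynomial.degreeLTEquiv k g).finrank_eq, Module.finrank_fin_fun]
    exact (ell_canonical hK hcan).symm)
  refine ⟨fun a ha => ?_, fun z hz => ?_⟩
  · have := hW (Submodule.mem_map_of_mem (f := ι) (Polynomial.mem_degreeLT.2 ha))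
    rwa [map_poly, div_eq_mul_inv]
  have hzW : z ∈ W := heqW.symm ▸ hz
  obtain ⟨a, ha, rfl⟩ := hzW
  exact ⟨a, Polynomial.mem_degreeLT.1 ha, by rw [map_poly, div_eq_mul_inv]; rfl⟩

end

end Groth.Funfld2.Quad
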