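import Groth.Agent.Funfld2.Quad.Separating
import Groth.Agent.Funfld2.Different.Basic
import Groth.Agent.Funfld2.Residue.Canonical
import Mathlib.RingTheory.Unramified.Field

/-! The divisor of `dx` on a quadratic extension of `k(x)`. -/

open FunFld Groth.FunFld1
open WithZero (exp)
open scoped LaurentSeries WithZero Polynomial

namespace Groth.Funfld2.Quad

section

variable {k K F : Type*} [Field k] [Field K] [Algebra k K] [Field F] [Algebra k F]

theorem ordDiff_of_ord (ψ : K →ₐ[k] F⸨X⸩) {P : Place k K} (hψ : LocRes.IsExpansionAt P.1 ψ)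
    {z : K} (hz : z ≠ 0) (hn : (P.ord z : F) ≠ 0) :
    LocRes.vDiff ψ 1 z ≠ 0 ∧ LocRes.ordDiff ψ 1 z = P.ord z - 1 := by
  have hv : Valued.v (ψ z) = exp (-P.ord z) := (hψ.1 z).trans (val_eq_exp_neg_ord P hz)
  have hz0 : ∀ i < P.ord z, (ψ z).coeff i = 0 := fun i hi =>
    Residue.coeff_eq_zero_of_val hv.le (by omega)
  have htop : (ψ z).coeff (P.ord z) ≠ 0 := by
    intro h0
    have h4 : Valued.v (ψ z) ≤ exp (-(P.ord z + 1)) :=
      (LaurentSeries.valuation_le_iff_coeff_lt_eq_zero F).2 fun i hi => by
        rcases lt_or_eq_of_le (show i ≤ P.ord z by omega) with hl | rfl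
        exacts [hz0 i hl, h0]
    rw [hv, WithZero.exp_le_exp] at h4
    omega
  have h1 : Valued.v (LocRes.D F (ψ z)) ≤ exp (-(P.ord z - 1)) :=
    (LaurentSeries.valuation_le_iff_coeff_lt_eq_zero F).2 fun i hi => by
      rw [LocRes.D_coeff, hz0 _ (by omega), smul_zero]
  have hcoeff : (LocRes.D F (ψ z)).coeff (P.ord z - 1) ≠ 0 := by
    rw [LocRes.D_coeff, sub_add_cancel, zsmul_eq_mul]
    exact mul_ne_zero hn htop
  have h0 : Valued.v (LocRes.D F (ψ z)) ≠ 0 := by
    rw [Valuation.ne_zero_iff]
    exact fun e => hcoeff (by rw [e, HahnSeries.coeff_zero])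
  simp only [LocRes.vDiff, LocRes.ordDiff, map_one, one_mul]
  refine ⟨h0, ?_⟩
  rw [← WithZero.exp_log h0, WithZero.exp_le_exp] at h1
  by_contra hne
  have h2 : Valued.v (LocRes.D F (ψ z)) ≤ exp (-(P.ord z)) := by
    rw [← WithZero.exp_log h0, WithZero.exp_le_exp]
    omega
  exact hcoeff ((LaurentSeries.valuation_le_iff_coeff_lt_eq_zero F).1 h2 _ (by omega))

end

section

variable {k K F : Type*} [Field k] [Field K] [Algebra k K] [Algebra (RatFunc k) K]
  [IsScalarTower k (RatFunc k) K] [Field F] [Algebra k F] [FiniteDimensional k F]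

/-- The image of a polynomial. -/
theorem map_poly (a : k[X]) : algebraMap (RatFunc k) K (algebraMap k[X] (RatFunc k) a) =
    Polynomial.aeval (algebraMap (RatFunc k) K RatFunc.X) a := by
  rw [Polynomial.aeval_algebraMap_apply]
  congr 1
  rw [← RatFunc.algebraMap_X, Polynomial.aeval_algebraMap_apply, Polynomial.aeval_X_left_apply]

theorem D_poly (a : k[X]) :
    algebraMap (RatFunc k) K (algebraMap k[X] (RatFunc k) (Polynomial.derivative a)) •
        KaehlerDifferential.D k K (algebraMap (RatFunc k) K RatFunc.X) =
      KaehlerDifferential.D k K (algebraMap (RatFunc k) K (algebraMap k[X] (RatFunc k) a)) := by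
  rw [map_poly, map_poly, Derivation.map_aeval]

variable (hK : IsFunctionField k K) (hdeg : Module.finrank (RatFunc k) K = 2)
  [Algebra.IsSeparable (RatFunc k) K]
  {P : Place k K} {ψ : K →ₐ[k] F⸨X⸩} (hψ : LocRes.IsExpansionAt P.1 ψ)
  {p : Place k (RatFunc k)} {e : ℕ} (he : IsOverWith P p e)

include hK hψ he in
/-- A parameter below with its derivative, and a bound on derivatives of integral functions. -/
theorem exists_param :
    ∃ δ : ℤ, (0 ≤ p.ord (RatFunc.X : RatFunc k) → δ = 0) ∧
      (p.ord (RatFunc.X : RatFunc k) < 0 → δ = 2) ∧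
      (∃ g c : RatFunc k, p.1 g = exp (-1 : ℤ) ∧ p.1 c = exp (-δ) ∧
        algebraMap (RatFunc k) K c • KaehlerDifferential.D k K (algebraMap (RatFunc k) K RatFunc.X) =
          KaehlerDifferential.D k K (algebraMap (RatFunc k) K g)) ∧
      ∀ u : RatFunc k, p.1 u ≤ 1 → ∃ c : RatFunc k, p.1 c ≤ exp (-δ) ∧
        algebraMap (RatFunc k) K c • KaehlerDifferential.D k K (algebraMap (RatFunc k) K RatFunc.X) =
          KaehlerDifferential.D k K (algebraMap (RatFunc k) K u) := by
  classical
  have hquot : ∀ a b : k[X], b ≠ 0 →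
      algebraMap (RatFunc k) K ((algebraMap k[X] (RatFunc k)
          (Polynomial.derivative a * b - a * Polynomial.derivative b)) /
            (algebraMap k[X] (RatFunc k) b) ^ 2) •
          KaehlerDifferential.D k K (algebraMap (RatFunc k) K RatFunc.X) =
        KaehlerDifferential.D k K (algebraMap (RatFunc k) K
          (algebraMap k[X] (RatFunc k) a / algebraMap k[X] (RatFunc k) b)) := by
    intro a b hb
    have hb' : algebraMap (RatFunc k) K (algebraMap k[X] (RatFunc k) b) ≠ 0 := by
      rw [map_ne_zero]; exact RatFunc.algebraMap_ne_zero hb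
    rw [map_div₀ _ (algebraMap k[X] (RatFunc k) a), Derivation.leibniz_div, ← D_poly a, ← D_poly b,
      smul_smul, smul_smul, ← sub_smul, smul_smul]
    congr 1
    simp only [map_div₀, map_pow, map_sub, map_mul]
    field_simp
  rcases le_or_gt 0 (p.ord (RatFunc.X : RatFunc k)) with hX | hX
  · refine ⟨0, fun _ => rfl, fun h => absurd h (not_lt.2 hX), ?_, fun u hu => ?_⟩
    · -- the minimal polynomial of the residue of `x`
      have hg := isGeometric (k := k) (K := K) hK
      have := Residue.formallyUnramified (IsFF.of_isFunctionField hK) hg hψ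
      have hsepF : Algebra.IsSeparable k F := Algebra.FormallyUnramified.isSeparable k F
      set xK := algebraMap (RatFunc k) K RatFunc.X with hxK
      have hxle : P.1 xK ≤ 1 := (overWith_le_one_iff he _).2 ((val_le_one_iff p _).2 hX)
      obtain ⟨s, hs⟩ := (LaurentSeries.val_le_one_iff_eq_coe F (ψ xK)).1 ((hψ.1 _).le.trans hxle)
      set α := PowerSeries.constantCoeff s with hα
      have hev : ∀ a : k[X], ψ (Polynomial.aeval xK a) =
          ((Polynomial.aeval s a : PowerSeries F) : F⸨X⸩) := by
        intro a
        rw [← Polynomial.aeval_algHom_apply, ← hs]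
        induction a using Polynomial.induction_on' with
        | add a b ha hb => rw [map_add, map_add, ha, hb, PowerSeries.coe_add]
        | monomial n r =>
          rw [Polynomial.aeval_monomial, Polynomial.aeval_monomial, PowerSeries.coe_mul,
            PowerSeries.coe_pow, HahnSeries.algebraMap_apply', PowerSeries.algebraMap_apply]
      have hcoe : ∀ a : k[X], PowerSeries.constantCoeff (Polynomial.aeval s a) =
          Polynomial.aeval α a := by
        intro a
        induction a using Polynomial.induction_on' with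
        | add a b ha hb => rw [map_add, map_add, ha, hb, map_add]
        | monomial n r =>
          simp [Polynomial.aeval_monomial, hα, PowerSeries.algebraMap_apply]
      have hint : IsIntegral k α := IsIntegral.of_finite k α
      set μ := minpoly k α with hμ
      have hsep : μ.Separable := Algebra.IsSeparable.isSeparable k α
      have hμ0 : μ ≠ 0 := minpoly.ne_zero hint
      have hlt : ∀ a : k[X], Polynomial.aeval α a = 0 →
          P.1 (Polynomial.aeval xK a) < 1 := by
        intro a ha
        rw [← hψ.1, hev]
        have hco : ∀ i < (1 : ℤ), ((Polynomial.aeval s a : PowerSeries F) : F⸨X⸩).coeff i = 0 := by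
          intro i hi
          rw [PowerSeries.coeff_coe]
          split_ifs with hneg
          · rfl
          · obtain rfl : i = 0 := by omega
            simp only [Int.natAbs_zero, PowerSeries.coeff_zero_eq_constantCoeff_apply, hcoe, ha]
        exact ((LaurentSeries.valuation_le_iff_coeff_lt_eq_zero F).2 hco).trans_lt
          (by rw [← WithZero.exp_zero, WithZero.exp_lt_exp]; norm_num)
      have hone : ∀ a : k[X], Polynomial.aeval α a ≠ 0 → P.1 (Polynomial.aeval xK a) = 1 := by
        intro a ha
        refine le_antisymm ?_ (not_lt.1 fun h => ?_)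
        · rw [← hψ.1, hev]
          exact (LaurentSeries.val_le_one_iff_eq_coe F _).2 ⟨_, rfl⟩
        · rw [← hψ.1, hev] at h
          have h2 : Valued.v (((Polynomial.aeval s a : PowerSeries F) : F⸨X⸩)) ≤ exp (-(1 : ℤ)) :=
            lt_one_iff_le_exp_neg_one.1 h
          have h3 := (LaurentSeries.valuation_le_iff_coeff_lt_eq_zero F).1 h2 0 (by norm_num)
          rw [PowerSeries.coeff_coe, if_neg (by norm_num)] at h3
          simp only [Int.natAbs_zero, PowerSeries.coeff_zero_eq_constantCoeff_apply, hcoe] at h3
          exact ha h3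
      refine ⟨algebraMap k[X] (RatFunc k) μ, algebraMap k[X] (RatFunc k) (Polynomial.derivative μ),
        ?_, ?_, D_poly μ⟩
      · have h1 := (overWith_lt_one_iff he (algebraMap k[X] (RatFunc k) μ)).1 (by
          rw [map_poly]; exact hlt μ (minpoly.aeval k α))
        have hne : algebraMap k[X] (RatFunc k) μ ≠ 0 := RatFunc.algebraMap_ne_zero hμ0
        rw [val_eq_exp_neg_ord p hne, le_antisymm
          (Groth.Funfld2.Rat.ord_squarefree_le_one hX hsep.squarefree) ((val_lt_one_iff p hne).1 h1)]
      · have h1 := hone _ (Polynomial.Separable.aeval_derivative_ne_zero hsep (minpoly.aeval k α))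
        rw [← map_poly, he] at h1
        rw [neg_zero, WithZero.exp_zero]
        exact (pow_eq_one_iff_of_nonneg zero_le (overWith_pos he).ne').1 h1
    · -- integral functions have integral derivative
      have hle := Groth.Funfld2.Rat.val_poly_le_one hX
      have hden : p.1 (algebraMap k[X] (RatFunc k) u.denom) = 1 := by
        refine le_antisymm (hle _) (not_lt.1 fun hlt => ?_)
        have hnum : p.1 (algebraMap k[X] (RatFunc k) u.num) < 1 := by
          rw [← RatFunc.num_div_denom u, map_div₀,
            div_le_one₀ (zero_lt_iff.2 (by simp [u.denom_ne_zero]))] at hu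
          exact hu.trans_lt hlt
        obtain ⟨a, b, hab⟩ := RatFunc.isCoprime_num_denom u
        have := congrArg (fun q => p.1 (algebraMap k[X] (RatFunc k) q)) hab
        simp only [map_add, map_mul, map_one] at this
        refine absurd this (ne_of_lt (Valuation.map_add_lt _ ?_ ?_)) <;> rw [map_mul]
        · exact (mul_le_of_le_one_left' (hle a)).trans_lt hnum
        · exact (mul_le_of_le_one_left' (hle b)).trans_lt hlt
      refine ⟨_, ?_, (hquot u.num u.denom u.denom_ne_zero).trans (by rw [RatFunc.num_div_denom])⟩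
      rw [neg_zero, WithZero.exp_zero, map_div₀, map_pow, hden, one_pow, div_one]
      exact hle _
  · have hord := (Groth.Funfld2.Rat.ord_poly_inf hX).2
    have hX1 := (Groth.Funfld2.Rat.ord_poly_inf hX).1
    refine ⟨2, fun h => absurd hX (not_lt.2 h), fun _ => rfl, ?_, fun u hu => ?_⟩
    · refine ⟨(RatFunc.X : RatFunc k)⁻¹, -((RatFunc.X : RatFunc k)⁻¹ ^ 2), ?_, ?_, ?_⟩
      · rw [map_inv₀, val_eq_exp_neg_ord p RatFunc.X_ne_zero, hX1, ← WithZero.exp_neg]; rfl
      · rw [Valuation.map_neg, map_pow, map_inv₀, val_eq_exp_neg_ord p RatFunc.X_ne_zero, hX1,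
          ← WithZero.exp_neg, ← WithZero.exp_nsmul]
        rfl
      · rw [map_inv₀, Derivation.leibniz_inv, map_neg, map_pow, map_inv₀]
    · set q := u.num % u.denom with hq
      have hu' : KaehlerDifferential.D k K (algebraMap (RatFunc k) K u) =
          KaehlerDifferential.D k K (algebraMap (RatFunc k) K
            (algebraMap k[X] (RatFunc k) q / algebraMap k[X] (RatFunc k) u.denom)) := by
        obtain ⟨c, hc⟩ : ∃ c : k, u.num / u.denom = Polynomial.C c := by
          refine ⟨(u.num / u.denom).coeff 0, Polynomial.eq_C_of_natDegree_le_zero ?_⟩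
          by_cases hu0 : u = 0
          · simp [hu0]
          rw [← RatFunc.num_div_denom u, map_div₀, div_le_one₀ (zero_lt_iff.2 (by simp [u.denom_ne_zero])),
            val_eq_exp_neg_ord p (RatFunc.algebraMap_ne_zero (RatFunc.num_ne_zero hu0)),
            val_eq_exp_neg_ord p (RatFunc.algebraMap_ne_zero u.denom_ne_zero), hord _ (RatFunc.num_ne_zero hu0),
            hord _ u.denom_ne_zero, WithZero.exp_le_exp] at hu
          by_contra hpos
          rw [not_le] at hpos
          have hqt : u.num / u.denom ≠ 0 := fun e => by rw [e, Polynomial.natDegree_zero] at hpos; omega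
          have hdm := EuclideanDomain.div_add_mod u.num u.denom
          have h1 : (u.denom * (u.num / u.denom)).natDegree =
              u.denom.natDegree + (u.num / u.denom).natDegree :=
            Polynomial.natDegree_mul u.denom_ne_zero hqt
          rcases eq_or_ne (u.num % u.denom) 0 with hm | hm
          · rw [hm, add_zero] at hdm
            rw [hdm] at h1
            omega
          · have h2 := Polynomial.natDegree_lt_natDegree hm (Polynomial.degree_mod_lt u.num u.denom_ne_zero)
            have h3 := congrArg Polynomial.natDegree hdm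
            rw [Polynomial.natDegree_add_eq_left_of_natDegree_lt (by omega), h1] at h3
            omega
        have h1 : u = algebraMap k (RatFunc k) c +
            algebraMap k[X] (RatFunc k) q / algebraMap k[X] (RatFunc k) u.denom := by
          have h2 := congrArg (algebraMap k[X] (RatFunc k)) (EuclideanDomain.div_add_mod u.num u.denom)
          rw [map_add, map_mul, hc, Groth.Funfld2.Rat.ι_C] at h2
          conv_lhs => rw [← RatFunc.num_div_denom u, ← h2]
          rw [add_div, mul_div_cancel_left₀ _ (RatFunc.algebraMap_ne_zero u.denom_ne_zero), hq]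
        conv_lhs => rw [h1]
        rw [map_add, map_add, ← IsScalarTower.algebraMap_apply, Derivation.map_algebraMap, zero_add]
      refine ⟨_, ?_, (hquot q u.denom u.denom_ne_zero).trans hu'.symm⟩
      rcases eq_or_ne (Polynomial.derivative q * u.denom - q * Polynomial.derivative u.denom) 0
        with h0 | h0
      · simp [h0]
      · have hq0 : q ≠ 0 := fun e => h0 (by simp [e])
        have hlt : q.natDegree < u.denom.natDegree :=
          Polynomial.natDegree_lt_natDegree hq0 (Polynomial.degree_mod_lt _ u.denom_ne_zero)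
        have hdeg2 : (Polynomial.derivative q * u.denom - q * Polynomial.derivative u.denom).natDegree + 2 ≤
            2 * u.denom.natDegree := by
          have a1 := Polynomial.natDegree_sub_le (Polynomial.derivative q * u.denom)
            (q * Polynomial.derivative u.denom)
          have a2 : (q * Polynomial.derivative u.denom).natDegree ≤ q.natDegree + (u.denom.natDegree - 1) :=
            Polynomial.natDegree_mul_le.trans (Nat.add_le_add_left (Polynomial.natDegree_derivative_le _) _)
          rcases eq_or_ne (Polynomial.derivative q) 0 with hd0 | hd0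
          · rw [hd0, zero_mul, zero_sub, Polynomial.natDegree_neg]
            omega
          · have a3 : (Polynomial.derivative q * u.denom).natDegree ≤ (q.natDegree - 1) + u.denom.natDegree :=
              Polynomial.natDegree_mul_le.trans (Nat.add_le_add_right (Polynomial.natDegree_derivative_le _) _)
            have a4 : 0 < q.natDegree := Nat.pos_of_ne_zero fun e => hd0 (by
              rw [Polynomial.eq_C_of_natDegree_eq_zero e, Polynomial.derivative_C])
            omega
        rw [map_div₀, map_pow, val_eq_exp_neg_ord p (RatFunc.algebraMap_ne_zero h0),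
          val_eq_exp_neg_ord p (RatFunc.algebraMap_ne_zero u.denom_ne_zero), hord _ h0,
          hord _ u.denom_ne_zero, ← WithZero.exp_nsmul, ← WithZero.exp_sub, WithZero.exp_le_exp,
          nsmul_eq_mul]
        push_cast
        omega

include hK hψ he in
/-- `ord_P(dx)` read on any parameter below. -/
theorem ordDiff_x_eq :
    ∃ δ : ℤ, (0 ≤ p.ord (RatFunc.X : RatFunc k) → δ = 0) ∧
      (p.ord (RatFunc.X : RatFunc k) < 0 → δ = 2) ∧
      ∀ G : RatFunc k, p.1 G = exp (-1 : ℤ) →
        LocRes.vDiff ψ 1 (algebraMap (RatFunc k) K G) ≠ 0 ∧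
        LocRes.ordDiff ψ 1 (algebraMap (RatFunc k) K RatFunc.X) =
          LocRes.ordDiff ψ 1 (algebraMap (RatFunc k) K G) - e * δ := by
  obtain ⟨δ, h1, h2, ⟨g, c, hg, hc, hgc⟩, hu⟩ := exists_param hK hψ he
  refine ⟨δ, h1, h2, fun G hG => ?_⟩
  have hg0 : g ≠ 0 := ne_zero_of_val_eq hg
  obtain ⟨d, hd, hdd⟩ := hu (G / g) (by rw [map_div₀, hG, hg, div_self WithZero.exp_ne_zero])
  have hvc : p.1 (G / g * c + g * d) = exp (-δ) := by
    rw [Valuation.map_add_eq_of_lt_left, map_mul, map_div₀, hG, hg, div_self WithZero.exp_ne_zero,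
      one_mul, hc]
    rw [map_mul, map_mul, map_div₀, hG, hg, div_self WithZero.exp_ne_zero, one_mul, hc]
    refine (mul_le_mul' le_rfl hd).trans_lt ?_
    rw [← WithZero.exp_add, WithZero.exp_lt_exp]
    omega
  have hGc : algebraMap (RatFunc k) K (G / g * c + g * d) •
      KaehlerDifferential.D k K (algebraMap (RatFunc k) K RatFunc.X) =
      KaehlerDifferential.D k K (algebraMap (RatFunc k) K G) := by
    conv_rhs => rw [show G = G / g * g by field_simp, map_mul, Derivation.leibniz, ← hgc, ← hdd,
      smul_smul, smul_smul, ← add_smul]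
    congr 1
    simp only [map_add, map_mul]
  have hxne : LocRes.vDiff ψ 1 (algebraMap (RatFunc k) K RatFunc.X) ≠ 0 := by
    simp only [LocRes.vDiff, map_one, one_mul]
    rw [Valuation.ne_zero_iff]
    exact Residue.D_expansion_ne_zero (IsFF.of_isFunctionField hK) (isGeometric hK) hψ D_x_ne_zero
  have hne : LocRes.vDiff ψ 1 (algebraMap (RatFunc k) K G) ≠ 0 := by
    simp only [LocRes.vDiff, map_one, one_mul] at hxne ⊢
    rw [Different.dExp_smul ψ hGc, map_mul]
    refine mul_ne_zero ?_ hxne
    rw [hψ.1, he, hvc]
    exact pow_ne_zero _ WithZero.exp_ne_zero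
  refine ⟨hne, ?_⟩
  have := (Different.ordDiff_one_eq_of_smul ψ hψ hGc hne).2.2
  rw [overWith_ord he, ord_eq_of_val_eq p hvc] at this
  linarith

include hK hψ he in
theorem ordDiff_x_tame (hne : (e : F) ≠ 0) :
    (0 ≤ p.ord (RatFunc.X : RatFunc k) →
      LocRes.ordDiff ψ 1 (algebraMap (RatFunc k) K RatFunc.X) = (e : ℤ) - 1) ∧
    (p.ord (RatFunc.X : RatFunc k) < 0 →
      LocRes.ordDiff ψ 1 (algebraMap (RatFunc k) K RatFunc.X) = -(e : ℤ) - 1) := by
  obtain ⟨δ, h1, h2, h⟩ := ordDiff_x_eq hK hψ he
  obtain ⟨g, -, hg⟩ := exists_uniformizer p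
  obtain ⟨hv, hx⟩ := h g hg
  rw [(Different.ordDiff_pullback he hψ hg hv).1 hne] at hx
  exact ⟨fun h0 => by rw [hx, h1 h0]; ring, fun h0 => by rw [hx, h2 h0]; ring⟩

end

end Groth.Funfld2.Quad
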