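import Mathlib.FieldTheory.IntermediateField.Adjoin.Basic
import Mathlib.LinearAlgebra.Dimension.Finite
import Mathlib.Algebra.CharP.Two
import Mathlib.LinearAlgebra.FiniteDimensional.Lemmas
import Mathlib.Algebra.Polynomial.FieldDivision

/-! Quadratic extensions of fields. -/

namespace Groth.Funfld2.Quad

open scoped Polynomial

variable {F K : Type*} [Field F] [Field K] [Algebra F K] (hdeg : Module.finrank F K = 2)

include hdeg

theorem finite : FiniteDimensional F K := Module.finite_of_finrank_eq_succ hdeg

theorem exists_not_mem : ∃ z : K, z ∉ Set.range (algebraMap F K) := by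
  by_contra! h
  have hb : (⊥ : IntermediateField F K) = ⊤ :=
    eq_top_iff.2 fun z _ => IntermediateField.mem_bot.2 (h z)
  have : Module.finrank F K = 1 := IntermediateField.bot_eq_top_iff_finrank_eq_one.1 hb
  omega

theorem adjoin_eq_top {y : K} (hy : y ∉ Set.range (algebraMap F K)) :
    IntermediateField.adjoin F ({y} : Set K) = ⊤ := by
  have : IsSimpleOrder (IntermediateField F K) :=
    IntermediateField.isSimpleOrder_of_finrank_prime F K (by rw [hdeg]; exact Nat.prime_two)
  refine (eq_bot_or_eq_top _).resolve_left fun h => hy ?_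
  have := IntermediateField.mem_adjoin_simple_self F y
  rw [h, IntermediateField.mem_bot] at this
  exact this

theorem decomp {y : K} (hy : y ∉ Set.range (algebraMap F K)) (w : K) :
    ∃ a b : F, w = algebraMap F K a + algebraMap F K b * y := by
  have := finite hdeg
  have hli : LinearIndependent F ![(1 : K), y] := by
    refine LinearIndependent.pair_iff.2 fun s t hst => ?_
    rw [Algebra.smul_def, Algebra.smul_def, mul_one] at hst
    by_cases ht : t = 0
    · subst ht
      rw [map_zero, zero_mul, add_zero] at hst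
      exact ⟨(map_eq_zero _).1 hst, rfl⟩
    · refine absurd ⟨-s / t, ?_⟩ hy
      have : algebraMap F K t ≠ 0 := by simpa using ht
      rw [map_div₀, map_neg, div_eq_iff this]
      linear_combination -hst
  have hspan := LinearIndependent.span_eq_top_of_card_eq_finrank hli (by simp [hdeg])
  have hw : w ∈ Submodule.span F (Set.range ![(1 : K), y]) := hspan ▸ Submodule.mem_top
  obtain ⟨c, hc⟩ := (Submodule.mem_span_range_iff_exists_fun F).1 hw
  refine ⟨c 0, c 1, hc.symm.trans ?_⟩
  simp [Fin.sum_univ_two, Algebra.smul_def]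

theorem exists_quadratic {y : K} (hy : y ∉ Set.range (algebraMap F K)) :
    ∃ T N : F, y ^ 2 = algebraMap F K T * y - algebraMap F K N := by
  obtain ⟨a, b, h⟩ := decomp hdeg hy (y ^ 2)
  exact ⟨b, -a, by rw [h, map_neg]; ring⟩

/-- Completing the square. -/
theorem exists_sqrt_gen (h2 : (2 : F) ≠ 0) :
    ∃ (y : K) (d : F), d ≠ 0 ∧ y ^ 2 = algebraMap F K d ∧
      y ∉ Set.range (algebraMap F K) := by
  obtain ⟨z, hz⟩ := exists_not_mem hdeg
  obtain ⟨T, N, h⟩ := exists_quadratic hdeg hz
  have hy : 2 * z - algebraMap F K T ∉ Set.range (algebraMap F K) := by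
    rintro ⟨c, hc⟩
    refine hz ⟨(c + T) / 2, ?_⟩
    have h2' : (2 : K) ≠ 0 := by
      rw [← map_ofNat (algebraMap F K) 2]; simpa using h2
    rw [map_div₀, map_add, hc, map_ofNat]
    field_simp
    ring
  refine ⟨_, T ^ 2 - 4 * N, fun hd => hy ⟨0, ?_⟩, ?_, hy⟩
  · rw [map_zero, eq_comm, ← sq_eq_zero_iff]
    have : algebraMap F K (T ^ 2 - 4 * N) = 0 := by rw [hd, map_zero]
    rw [map_sub, map_pow, map_mul, map_ofNat] at this
    linear_combination 4 * h + this
  · rw [map_sub, map_pow, map_mul, map_ofNat]
    linear_combination 4 * h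

/-- Artin-Schreier form. -/
theorem exists_artinSchreier_gen [Algebra.IsSeparable F K] (h2 : (2 : F) = 0) :
    ∃ (y : K) (d : F), y ^ 2 + y = algebraMap F K d ∧
      y ∉ Set.range (algebraMap F K) := by
  obtain ⟨z, hz⟩ := exists_not_mem hdeg
  obtain ⟨T, N, h⟩ := exists_quadratic hdeg hz
  have h2K : (2 : K) = 0 := by rw [← map_ofNat (algebraMap F K) 2, h2, map_zero]
  have hT : T ≠ 0 := by
    rintro rfl
    have := finite hdeg
    have hsep : (minpoly F z).Separable := Algebra.IsSeparable.isSeparable F z
    have hdvd : minpoly F z ∣ Polynomial.X ^ 2 + Polynomial.C N := minpoly.dvd _ _ (by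
      simp only [map_add, map_pow, Polynomial.aeval_X, Polynomial.aeval_C]
      rw [h, map_zero]; ring)
    have hge : 2 ≤ (minpoly F z).natDegree :=
      (minpoly.two_le_natDegree_iff (IsIntegral.of_finite F z)).2 hz
    have heq : minpoly F z = Polynomial.X ^ 2 + Polynomial.C N :=
      (Polynomial.eq_of_monic_of_dvd_of_natDegree_le (minpoly.monic (IsIntegral.of_finite F z))
        (Polynomial.monic_X_pow_add_C _ two_ne_zero) hdvd
        (by rw [Polynomial.natDegree_X_pow_add_C]; exact hge)).symm
    rw [heq] at hsep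
    have hder : Polynomial.derivative (Polynomial.X ^ 2 + Polynomial.C N : F[X]) = 0 := by
      have h11 : (1 : F) + 1 = 0 := by rw [← h2]; norm_num
      simp [h11]
    rw [Polynomial.separable_def, hder, isCoprime_zero_right] at hsep
    have := Polynomial.natDegree_eq_zero_of_isUnit hsep
    rw [Polynomial.natDegree_X_pow_add_C] at this
    omega
  have hTK : algebraMap F K T ≠ 0 := by simpa using hT
  refine ⟨z / algebraMap F K T, -N / T ^ 2, ?_, ?_⟩
  · rw [map_div₀, map_pow, map_neg]
    field_simp
    linear_combination h + algebraMap F K T * z * h2K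
  · rintro ⟨c, hc⟩
    exact hz ⟨c * T, by rw [map_mul, hc, div_mul_cancel₀ _ hTK]⟩

end Groth.Funfld2.Quad
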