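import Groth.Agent.Funfld2.Quad.Field
import Groth.Agent.FunFld1.Zeta.Fibre

/-! Places in quadratic extensions of function fields. -/

open FunFld Groth.FunFld1
open scoped WithZero
open WithZero (exp)

namespace Groth.Funfld2.Quad

section

variable {k F K : Type*} [Field k] [Field F] [Field K] [Algebra k F] [Algebra F K] [Algebra k K]
  [IsScalarTower k F K] (hF : IsFF k F) (hdeg : Module.finrank F K = 2)
  {Q : Place k K} {P : Place k F}

include hF hdeg

theorem deg_le (h : IsOver Q P) : P.deg ≤ Q.deg ∧ ramIdx Q P * Q.deg ≤ 2 * P.deg := by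
  have := finite hdeg
  classical
  refine ⟨Nat.le_of_dvd ((hF.ext (K' := K)).deg_pos Q) (Groth.FunFld1.deg_dvd_deg hF h), ?_⟩
  rw [← hdeg, ← hF.sum_ramIdx_deg (K' := K) P]
  exact Finset.single_le_sum (f := fun R => ramIdx R P * R.deg) (fun _ _ => Nat.zero_le _)
    (hF.mem_above.2 h)

theorem ram_cases (h : IsOver Q P) : IsOverWith Q P 1 ∨ IsOverWith Q P 2 := by
  have he := isOverWith_ramIdx h
  obtain ⟨h1, h2⟩ := deg_le hF hdeg h
  have hpos := overWith_pos he
  have := hF.deg_pos P
  have h3 : ramIdx Q P * P.deg ≤ 2 * P.deg := (Nat.mul_le_mul_left _ h1).trans h2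
  have h4 : ramIdx Q P ≤ 2 := Nat.le_of_mul_le_mul_right h3 this
  rcases (by omega : ramIdx Q P = 1 ∨ ramIdx Q P = 2) with e | e <;> rw [e] at he
  exacts [Or.inl he, Or.inr he]

theorem of_two (h : IsOverWith Q P 2) :
    (∀ R : Place k K, IsOver R P → R = Q) ∧ Q.deg = P.deg := by
  classical
  have := finite hdeg
  have hQ := overWith_isOver h
  obtain ⟨h1, h2⟩ := deg_le hF hdeg hQ
  rw [ramIdx_eq h] at h2
  refine ⟨fun R hR => ?_, by omega⟩
  by_contra hne
  have hsub : ({Q, R} : Finset (Place k K)) ⊆ hF.above P := by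
    intro S hS
    simp only [Finset.mem_insert, Finset.mem_singleton] at hS
    rcases hS with rfl | rfl <;> simpa
  have hle := Finset.sum_le_sum_of_subset (f := fun S => ramIdx S P * S.deg) hsub
  rw [Finset.sum_pair (Ne.symm hne), hF.sum_ramIdx_deg, hdeg, ramIdx_eq h] at hle
  have := Nat.mul_pos (overWith_pos (isOverWith_ramIdx hR)) ((hF.ext (K' := K)).deg_pos R)
  omega

/-- An odd order forces ramification. -/
theorem two_of_odd (h : IsOver Q P) {g : F} {n : ℤ}
    (hn : Q.ord (algebraMap F K g) = 2 * n) (hg : Odd (P.ord g)) : IsOverWith Q P 2 := by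
  refine (ram_cases hF hdeg h).resolve_left fun h1 => ?_
  rw [overWith_ord h1] at hn
  obtain ⟨m, hm⟩ := hg
  push_cast at hn
  omega

theorem unique_above (h : ∀ Q : Place k K, IsOver Q P → IsOverWith Q P 2) :
    (∃! Q : Place k K, IsOver Q P) ∧
      ∀ Q : Place k K, IsOver Q P → IsOverWith Q P 2 ∧ Q.deg = P.deg := by
  have := finite hdeg
  obtain ⟨Q, hQ⟩ := hF.exists_over (K' := K) P
  exact ⟨⟨Q, hQ, (of_two hF hdeg (h Q hQ)).1⟩, fun R hR => ⟨h R hR, (of_two hF hdeg (h R hR)).2⟩⟩

theorem one_of_not_two (h : IsOver Q P) (h2 : ¬ IsOverWith Q P 2) : IsOverWith Q P 1 :=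
  (ram_cases hF hdeg h).resolve_right h2

/-- Artin-Schreier: no pole means unramified. -/
theorem artinSchreier_unram (h2F : (2 : F) = 0) {y : K} (hy : y ∉ Set.range (algebraMap F K))
    {f : F} (heq : y ^ 2 + y = algebraMap F K f) (hf : 0 ≤ P.ord f) (h : IsOver Q P) :
    IsOverWith Q P 1 := by
  refine one_of_not_two hF hdeg h fun he => ?_
  have h2K : (2 : K) = 0 := by rw [← map_ofNat (algebraMap F K) 2, h2F, map_zero]
  have hyle : Q.1 y ≤ 1 := by
    by_contra hgt
    rw [not_le] at hgt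
    have h1 : Q.1 (y ^ 2 + y) = Q.1 y ^ 2 := by
      rw [Valuation.map_add_eq_of_lt_left, map_pow]
      rw [map_pow]; exact lt_self_pow₀ hgt one_lt_two
    rw [heq] at h1
    have h3 := (overWith_le_one_iff he f).2 ((val_le_one_iff P f).2 hf)
    rw [h1] at h3
    exact absurd h3 (not_le.2 (one_lt_pow₀ hgt two_ne_zero))
  obtain ⟨z, hz0, hz⟩ := exists_uniformizer Q
  obtain ⟨a, b, hab⟩ := decomp hdeg hy z
  have hz1 : Q.ord z = 1 := by rw [ord_eq_of_val_eq Q hz, neg_neg]
  have hev : ∀ c : F, Q.ord (algebraMap F K c) = 2 * P.ord c := fun c => by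
    rw [overWith_ord he]; rfl
  by_cases hb : b = 0
  · rw [hb, map_zero, zero_mul, add_zero] at hab
    have := hev a
    rw [← hab, hz1] at this
    omega
  have hbK : algebraMap F K b ≠ 0 := by simpa using hb
  have hid : z ^ 2 + algebraMap F K b * z = algebraMap F K (a ^ 2 + a * b + b ^ 2 * f) := by
    simp only [map_add, map_mul, map_pow, ← heq, hab]
    linear_combination (algebraMap F K a * algebraMap F K b * y) * h2K
  by_cases hbpos : 0 < P.ord b
  · -- then `b y` is too small
    have hvb : Q.1 (algebraMap F K b * y) < exp (-1 : ℤ) := by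
      rw [map_mul, val_eq_exp_neg_ord Q hbK, hev]
      exact (mul_le_of_le_one_right' hyle).trans_lt (WithZero.exp_lt_exp.2 (by omega))
    have hva : Q.1 (algebraMap F K a) = exp (-1 : ℤ) := by
      rw [show algebraMap F K a = z - algebraMap F K b * y by rw [hab]; ring,
        Valuation.map_sub_eq_of_lt_left _ (hz.symm ▸ hvb), hz]
    have := hev a
    rw [ord_eq_of_val_eq Q hva] at this
    omega
  · have hv : Q.1 (z ^ 2 + algebraMap F K b * z) = exp (-(2 * P.ord b + 1)) := by
      have h1 : Q.1 (algebraMap F K b * z) = exp (-(2 * P.ord b + 1)) := by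
        rw [map_mul, val_eq_exp_neg_ord Q hbK, hev, hz, ← WithZero.exp_add]
        congr 1; ring
      rw [Valuation.map_add_eq_of_lt_right, h1]
      rw [h1, map_pow, hz, ← WithZero.exp_nsmul, WithZero.exp_lt_exp, nsmul_eq_mul]
      push_cast; omega
    rw [hid] at hv
    have := hev (a ^ 2 + a * b + b ^ 2 * f)
    rw [ord_eq_of_val_eq Q hv] at this
    omega

/-- Kummer: an even order means unramified. -/
theorem kummer_unram (h2F : (2 : F) ≠ 0) {y : K} (hy : y ∉ Set.range (algebraMap F K))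
    {f : F} (heq : y ^ 2 = algebraMap F K f) (hf : Even (P.ord f)) (h : IsOver Q P) :
    IsOverWith Q P 1 := by
  refine one_of_not_two hF hdeg h fun he => ?_
  have hev : ∀ c : F, Q.ord (algebraMap F K c) = 2 * P.ord c := fun c => by
    rw [overWith_ord he]; rfl
  have hy0 : y ≠ 0 := fun e => hy ⟨0, by rw [e, map_zero]⟩
  have hyord : Even (Q.ord y) := by
    have h1 := hev f
    rw [← heq, sq, ord_mul Q hy0 hy0] at h1
    obtain ⟨m, hm⟩ := hf
    exact ⟨m, by omega⟩
  obtain ⟨z, hz0, hz⟩ := exists_uniformizer Q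
  obtain ⟨a, b, hab⟩ := decomp hdeg hy z
  have hz1 : Q.ord z = 1 := by rw [ord_eq_of_val_eq Q hz, neg_neg]
  by_cases ha : a = 0
  · rw [ha, map_zero, zero_add] at hab
    by_cases hb : b = 0
    · rw [hb, map_zero, zero_mul] at hab; exact hz0 hab
    rw [hab, ord_mul Q (by simpa using hb) hy0, hev] at hz1
    obtain ⟨m, hm⟩ := hyord
    omega
  have ha2 : algebraMap F K (2 * a) ≠ 0 := by simpa using mul_ne_zero h2F ha
  have hid : z ^ 2 - algebraMap F K (2 * a) * z = algebraMap F K (b ^ 2 * f - a ^ 2) := by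
    simp only [map_sub, map_mul, map_pow, map_ofNat, ← heq, hab]
    ring
  have hord2a : P.ord (2 * a) = P.ord a := by
    rw [ord_mul P h2F ha, show (2 : F) = algebraMap k F 2 from (map_ofNat _ _).symm,
      ord_algebraMap, zero_add]
  by_cases hapos : 0 < P.ord a
  · have hva : Q.1 (algebraMap F K a) < exp (-1 : ℤ) := by
      rw [val_eq_exp_neg_ord Q (by simpa using ha), hev, WithZero.exp_lt_exp]; omega
    have hvby : Q.1 (algebraMap F K b * y) = exp (-1 : ℤ) := by
      rw [show algebraMap F K b * y = z - algebraMap F K a by rw [hab]; ring,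
        Valuation.map_sub_eq_of_lt_left _ (hz.symm ▸ hva), hz]
    have hb : algebraMap F K b ≠ 0 := fun e => by
      rw [e, zero_mul, map_zero] at hvby; exact WithZero.exp_ne_zero hvby.symm
    have := ord_eq_of_val_eq Q hvby
    rw [ord_mul Q hb hy0, hev] at this
    obtain ⟨m, hm⟩ := hyord
    omega
  · have h1 : Q.1 (algebraMap F K (2 * a) * z) = exp (-(2 * P.ord a + 1)) := by
      rw [map_mul, val_eq_exp_neg_ord Q ha2, hev, hord2a, hz, ← WithZero.exp_add]
      congr 1; ring
    have hv : Q.1 (z ^ 2 - algebraMap F K (2 * a) * z) = exp (-(2 * P.ord a + 1)) := by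
      rw [Valuation.map_sub_eq_of_lt_right, h1]
      rw [h1, map_pow, hz, ← WithZero.exp_nsmul, WithZero.exp_lt_exp, nsmul_eq_mul]
      push_cast; omega
    rw [hid] at hv
    have := hev (b ^ 2 * f - a ^ 2)
    rw [ord_eq_of_val_eq Q hv] at this
    omega

end

end Groth.Funfld2.Quad
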