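import Groth.Agent.Funfld2.Quad.Place
import Groth.Agent.Funfld2.Rat.Places
import Mathlib.RingTheory.Polynomial.RationalRoot

/-! Quadratic extensions of the rational function field. -/

open FunFld Groth.FunFld1
open scoped Polynomial

namespace Groth.Funfld2.Quad

variable {k K : Type*} [Field k] [Field K] [Algebra (RatFunc k) K]

theorem not_mem_range_of_squarefree {f : k[X]} (hf : Squarefree f) (hd : 1 ≤ f.natDegree) {y : K}
    (heq : y ^ 2 = algebraMap (RatFunc k) K (algebraMap k[X] (RatFunc k) f)) :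
    y ∉ Set.range (algebraMap (RatFunc k) K) := by
  rintro ⟨c, rfl⟩
  rw [← map_pow] at heq
  have hc := (algebraMap (RatFunc k) K).injective heq
  have hint : IsIntegral k[X] (c ^ 2) := hc ▸ isIntegral_algebraMap
  obtain ⟨g, hg⟩ := IsIntegrallyClosed.algebraMap_eq_of_integral
    (IsIntegral.of_pow two_pos hint)
  have hfg : f = g ^ 2 := RatFunc.algebraMap_injective k (by rw [map_pow, hg, hc])
  obtain ⟨u, -, hu⟩ := Polynomial.isUnit_iff.1 (hf g ⟨1, by rw [mul_one, hfg, sq]⟩)
  rw [hfg, ← hu, ← map_pow, Polynomial.natDegree_C] at hd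
  omega

theorem two_ne_zero_ratFunc (h2 : ringChar k ≠ 2) : (2 : RatFunc k) ≠ 0 := by
  rw [← map_ofNat (algebraMap k (RatFunc k)) 2, map_ne_zero]; exact Ring.two_ne_zero h2

theorem two_eq_zero_ratFunc (h2 : ringChar k = 2) : (2 : RatFunc k) = 0 := by
  have := ringChar.charP k
  rw [h2] at this
  rw [← map_ofNat (algebraMap k (RatFunc k)) 2, CharTwo.two_eq_zero, map_zero]

end Groth.Funfld2.Quad
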