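import Groth.Agent.Funfld2.Quad.Rat
import Mathlib.FieldTheory.Perfect
import Mathlib.Algebra.CharP.Algebra

/-! Reduced Artin-Schreier equations over a genus zero field. -/

open FunFld Groth.FunFld1
open WithZero (exp)
open scoped WithZero

namespace Groth.Funfld2.Quad

section

variable {k F : Type*} [Field k] [Field F] [Algebra k F] [PerfectField k]

/-- Removing an even pole. -/
theorem exists_reduce_step (hK : IsFunctionField k F) (hg : genus k F = 0)
    (h2 : (2 : k) = 0) {f : F} {P : Place k F} {m : ℕ} (hm : 0 < m) (hf : P.ord f = -(2 * m : ℤ)) :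
    ∃ a : F, P.1 (f + (a ^ 2 + a)) < P.1 f ∧ ∀ Q : Place k F, Q ≠ P → Q.1 a ≤ 1 := by
  classical
  have hF := IsFF.of_isFunctionField hK
  have := hF.finiteDimensional_residueField P
  have : CharP k 2 := CharTwo.of_one_ne_zero_of_two_eq_zero one_ne_zero h2
  have : CharP (IsLocalRing.ResidueField P.O) 2 :=
    charP_of_injective_algebraMap (algebraMap k (IsLocalRing.ResidueField P.O)).injective 2
  have : @Module.Finite k (IsLocalRing.ResidueField P.O) _ _ Algebra.toModule :=
    hF.finiteDimensional_residueField P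
  have : Algebra.IsAlgebraic k (IsLocalRing.ResidueField P.O) := Algebra.IsAlgebraic.of_finite k _
  have : PerfectField (IsLocalRing.ResidueField P.O) := Algebra.IsAlgebraic.perfectField k
  have : ExpChar (IsLocalRing.ResidueField P.O) 2 := ExpChar.prime Nat.prime_two
  have : PerfectRing (IsLocalRing.ResidueField P.O) 2 := PerfectField.toPerfectRing 2
  have hf0 : f ≠ 0 := fun e => by rw [e, ord_zero] at hf; omega
  have hvf : P.1 f = exp (2 * m : ℤ) := by rw [val_eq_exp_neg_ord P hf0, hf, neg_neg]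
  set w := wt P (-(m : ℤ)) with hw
  have hvw : P.1 w = exp (-(m : ℤ)) := val_wt P _
  have hfw : P.1 (f * w ^ 2) ≤ 1 := by
    rw [map_mul, map_pow, hvf, hvw, ← WithZero.exp_nsmul, ← WithZero.exp_add,
      show (2 * m : ℤ) + 2 • -(m : ℤ) = 0 by ring, WithZero.exp_zero]
  obtain ⟨r, hr⟩ := surjective_frobenius (IsLocalRing.ResidueField P.O) 2
    (IsLocalRing.residue P.O ⟨f * w ^ 2, hfw⟩)
  rw [frobenius_def] at hr
  -- `L(mP)` surjects onto the residue field
  let D : ℤ → Divisor k F := fun n => Finsupp.single P n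
  have hle : L (D m) ≤ Ball P (m : ℤ) := fun x hx => by
    have := hx P
    simpa [D] using this
  let φ : L (D m) →ₗ[k] IsLocalRing.ResidueField P.O :=
    (ballRes P (m : ℤ)).comp (Submodule.inclusion hle)
  have := hF.finiteDimensional_L (D m)
  have hker : LinearMap.ker φ = (L (D (m - 1))).comap (L (D m)).subtype := by
    ext x
    rw [LinearMap.ker_comp, ker_ballRes]
    simp only [Submodule.mem_comap, Submodule.coe_inclusion, Submodule.coe_subtype, mem_Ball,
      mem_L]
    refine ⟨fun h Q => ?_, fun h => by simpa [D] using h P⟩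
    by_cases hQ : Q = P
    · subst hQ; simpa [D] using h
    · simpa [D, Finsupp.single_eq_of_ne hQ] using x.2 Q
  have hmono : L (D (m - 1)) ≤ L (D m) := L_mono (Finsupp.single_le_single.2 (by omega))
  have hdeg : ∀ n : ℤ, 0 ≤ n → (Module.finrank k (L (D n)) : ℤ) = n * P.deg + 1 := by
    intro n hn
    have := ell_eq_of_deg_ge (hK := hK) (D := D n) (by
      rw [hg, deg_single]; have := mul_nonneg hn (Int.natCast_nonneg P.deg); simp; omega)
    rw [hg, deg_single] at this
    change (ell (D n) : ℤ) = _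
    omega
  have hsurj : Function.Surjective φ := by
    rw [← LinearMap.range_eq_top]
    apply Submodule.eq_top_of_finrank_eq
    have h1 := LinearMap.finrank_range_add_finrank_ker φ
    rw [hker, LinearEquiv.finrank_eq (Submodule.comapSubtypeEquivOfLe hmono)] at h1
    have h3 := hdeg (m - 1) (by omega)
    have h4 := hdeg m (by omega)
    rw [sub_mul, one_mul] at h3
    change _ = P.deg
    omega
  obtain ⟨⟨a, ha⟩, hra⟩ := hsurj r
  refine ⟨a, ?_, fun Q hQ => by simpa [D, Finsupp.single_eq_of_ne hQ] using ha Q⟩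
  have hva : P.1 a ≤ exp (m : ℤ) := hle ha
  have haw : P.1 (a * w) ≤ 1 := by
    rw [map_mul, hvw, WithZero.exp_neg]; exact mul_inv_le_one_of_le₀ hva zero_le
  have hsum : P.1 (f * w ^ 2 + (a * w) ^ 2) < 1 := by
    have hle1 : P.1 (f * w ^ 2 + (a * w) ^ 2) ≤ 1 :=
      Valuation.map_add_le _ hfw (by rw [map_pow]; exact pow_le_one₀ zero_le haw)
    refine (residue_eq_zero_iff P ⟨_, hle1⟩).1 ?_
    change IsLocalRing.residue P.O (⟨f * w ^ 2, hfw⟩ + (⟨a * w, haw⟩ : P.O) ^ 2) = 0
    rw [map_add, map_pow, ← hr, show IsLocalRing.residue P.O (⟨a * w, haw⟩ : P.O) = r from hra,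
      CharTwo.add_self_eq_zero]
  have h1 : P.1 (f + a ^ 2) < P.1 f := by
    have e : f * w ^ 2 + (a * w) ^ 2 = (f + a ^ 2) * w ^ 2 := by ring
    rw [e, map_mul, map_pow, hvw, ← WithZero.exp_nsmul] at hsum
    rw [hvf]
    calc P.1 (f + a ^ 2) = P.1 (f + a ^ 2) * exp (2 • -(m : ℤ)) * exp (2 * m : ℤ) := by
          rw [mul_assoc, ← WithZero.exp_add, show 2 • -(m : ℤ) + 2 * m = 0 by ring,
            WithZero.exp_zero, mul_one]
      _ < 1 * exp (2 * m : ℤ) := mul_lt_mul_of_pos_right hsum WithZero.exp_pos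
      _ = _ := one_mul _
  rw [← add_assoc]
  refine Valuation.map_add_lt _ h1 (hva.trans_lt ?_)
  rw [hvf, WithZero.exp_lt_exp]
  omega

end

end Groth.Funfld2.Quad
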