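import Groth.Agent.Funfld2.Quad.Rat
import Groth.Agent.FunFld1.Geometric
import Mathlib.FieldTheory.Separable

/-! The coordinate of the rational subfield is separating. -/

open FunFld Groth.FunFld1
open scoped IntermediateField

namespace Groth.Funfld2.Quad

section

variable {F K : Type*} [Field F] [Field K] [Algebra F K]

theorem isSeparable_of_two_ne_zero (hdeg : Module.finrank F K = 2) (h2 : (2 : F) ≠ 0) :
    Algebra.IsSeparable F K := by
  have := finite hdeg
  refine ⟨fun z => ?_⟩
  have hint := IsIntegral.of_finite F z
  rw [IsSeparable, Polynomial.separable_iff_derivative_ne_zero (minpoly.irreducible hint)]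
  intro h0
  have hle : (minpoly F z).natDegree ≤ 2 := hdeg ▸ minpoly.natDegree_le z
  have hpos := minpoly.natDegree_pos hint
  have hc := congrArg (fun p => Polynomial.coeff p ((minpoly F z).natDegree - 1)) h0
  simp only [Polynomial.coeff_derivative, Polynomial.coeff_zero] at hc
  rw [Nat.sub_add_cancel hpos, (minpoly.monic hint).coeff_natDegree, one_mul] at hc
  rcases (by omega : (minpoly F z).natDegree = 1 ∨ (minpoly F z).natDegree = 2) with e | e <;>
    rw [e] at hc <;> norm_num at hc
  exact h2 hc

end

section

variable {k K : Type*} [Field k] [Field K] [Algebra k K] [Algebra (RatFunc k) K]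
  [IsScalarTower k (RatFunc k) K]

theorem transcendental_x : Transcendental k (algebraMap (RatFunc k) K RatFunc.X) :=
  (transcendental_algebraMap_iff (algebraMap (RatFunc k) K).injective).mpr
    Groth.Funfld2.Rat.transcendental_X

theorem separating [Algebra.IsSeparable (RatFunc k) K] :
    Algebra.IsSeparable (IntermediateField.adjoin k ({algebraMap (RatFunc k) K RatFunc.X} : Set K)) K := by
  let e : RatFunc k ≃ₐ[k]
      IntermediateField.adjoin k ({algebraMap (RatFunc k) K RatFunc.X} : Set K) :=
    RatFunc.algEquivOfTranscendental (algebraMap (RatFunc k) K RatFunc.X)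
      (transcendental_x (k := k) (K := K))
  refine Algebra.IsSeparable.of_equiv_equiv e.toRingEquiv (RingEquiv.refl K) ?_
  refine IsLocalization.ringHom_ext (nonZeroDivisors (Polynomial k)) (Polynomial.ringHom_ext ?_ ?_)
  · intro c
    simp only [RingHom.comp_apply]
    rw [show algebraMap (Polynomial k) (RatFunc k) (Polynomial.C c) = algebraMap k (RatFunc k) c by
      rw [← Polynomial.algebraMap_eq, ← IsScalarTower.algebraMap_apply]]
    simp only [RingHom.coe_coe, RingEquiv.refl_apply]
    change algebraMap _ K (e (algebraMap k (RatFunc k) c)) = _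
    rw [AlgEquiv.commutes, ← IsScalarTower.algebraMap_apply, ← IsScalarTower.algebraMap_apply]
  · simp only [RingHom.comp_apply, RatFunc.algebraMap_X, RingHom.coe_coe, RingEquiv.refl_apply]
    change algebraMap _ K (e RatFunc.X) = _
    simp [e]

theorem D_x_ne_zero [Algebra.IsSeparable (RatFunc k) K] :
    KaehlerDifferential.D k K (algebraMap (RatFunc k) K RatFunc.X) ≠ 0 := by
  have := separating (k := k) (K := K)
  exact (kaehler_of_separating (transcendental_x (k := k) (K := K))).2

theorem isGeometric [Algebra.IsSeparable (RatFunc k) K] (hK : IsFunctionField k K) :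
    IsGeometric k K := by
  have := separating (k := k) (K := K)
  exact isGeometric_of_separating hK (transcendental_x (k := k) (K := K))

end

end Groth.Funfld2.Quad
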